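import Cfsg.Agent.Lib.Recog.J1Order.Config
import Cfsg.Agent.Lib.Char.Brauer
import Cfsg.Agent.Lib.Char.DefectZero

/-!
Owner: helper29. The order `189000` does not occur.
-/

set_option autoImplicit false
set_option maxRecDepth 100000

open scoped ComplexConjugate
open CfsgLib.Char CfsgLib.Char.Exceptional CfsgLib.Char.Exceptional.D8Centralizer Subgroup

namespace CfsgLib.Recog.J1Order

variable {G : Type*} [Group G] [Fintype G]

/-- The involutions inverting an element. -/
noncomputable def inverting (x : G) : Finset G := by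
  classical exact Finset.univ.filter fun u => orderOf u = 2 ∧ u * x * u⁻¹ = x⁻¹

theorem mem_inverting {x u : G} : u ∈ inverting x ↔ orderOf u = 2 ∧ u * x * u⁻¹ = x⁻¹ := by
  simp [inverting]

/-- The character sum counting the involutions inverting `x`. -/
theorem count_inverting [Fintype (Cfsg.IrrCharacter G)] (t x : G) (ht : orderOf t = 2)
    (hinv : ∀ u : G, orderOf u = 2 → IsConj t u) (hx : orderOf x ≠ 1) (hx2 : orderOf x ≠ 2) :
    (Nat.card G : ℂ) * (inverting x).card =
      ((centralizer ({t} : Set G)).index : ℂ) ^ 2 *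
        ∑ χ : Cfsg.IrrCharacter G, conj ((χ : G → ℂ) x) * (χ : G → ℂ) t ^ 2 / (χ : G → ℂ) 1 := by
  classical
  set cl := CharIntegral.classFinset t with hcl
  have hmem : ∀ u, u ∈ cl ↔ orderOf u = 2 := by
    intro u
    rw [hcl, CharIntegral.mem_classFinset]
    refine ⟨fun h => ?_, hinv u⟩
    obtain ⟨g, hg⟩ := isConj_iff.1 h
    rw [← hg, orderOf_conj', ht]
  have hR : ∀ χ : Cfsg.IrrCharacter G, ((centralizer ({t} : Set G)).index : ℂ) ^ 2 *
      (conj ((χ : G → ℂ) x) * (χ : G → ℂ) t ^ 2 / (χ : G → ℂ) 1) =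
      ∑ a ∈ cl, ∑ b ∈ cl, (χ : G → ℂ) (a * b) * conj ((χ : G → ℂ) x) := by
    intro χ
    obtain ⟨d, -, hd⟩ := IsIrr.exists_degree χ.2
    simp only [← Finset.sum_mul]
    rw [class_pair_sum χ hd t, hd]
    ring
  rw [Finset.mul_sum, Finset.sum_congr rfl (fun χ _ => hR χ), Finset.sum_comm,
    Finset.sum_congr rfl (fun a _ => Finset.sum_comm)]
  have hcol : ∀ z : G, ∑ χ : Cfsg.IrrCharacter G, (χ : G → ℂ) z * conj ((χ : G → ℂ) x) =
      ∑ y : G, if y * x * y⁻¹ = z then 1 else 0 := by
    intro z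
    rw [column_orthogonality z x]
    by_cases h : IsConj z x
    · obtain ⟨c, rfl⟩ := isConj_iff.1 h.symm
      rw [if_pos h, Finset.sum_boole, ← Fintype.card_subtype, ← Nat.card_eq_fintype_card]
      refine congrArg Nat.cast (Nat.card_congr
        { toFun := fun u => ⟨(u : G) * c, ?_⟩
          invFun := fun y => ⟨(y : G) * c⁻¹, ?_⟩
          left_inv := fun u => Subtype.ext (by simp)
          right_inv := fun y => Subtype.ext (by simp) })
      · have h1 := mem_centralizer_singleton_iff.1 u.2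
        calc (u : G) * c * x * ((u : G) * c)⁻¹ = u * (c * x * c⁻¹) * (u : G)⁻¹ := by group
          _ = _ := by rw [h1]; group
      · rw [mem_centralizer_singleton_iff]
        have h1 := y.2
        calc (y : G) * c⁻¹ * (c * x * c⁻¹) = (y : G) * x * (y : G)⁻¹ * ((y : G) * c⁻¹) := by group
          _ = _ := by rw [h1]
    · rw [if_neg h, Finset.sum_eq_zero]
      exact fun y _ => if_neg fun hy => h (isConj_iff.2 ⟨y, hy⟩).symm
  simp only [hcol]
  rw [Finset.sum_congr rfl (fun a _ => Finset.sum_comm), Finset.sum_comm]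
  have hy : ∀ y : G, ∑ a ∈ cl, ∑ b ∈ cl, (if y * x * y⁻¹ = a * b then (1 : ℂ) else 0) =
      (inverting x).card := by
    intro y
    have hin : ∀ a ∈ cl, ∑ b ∈ cl, (if y * x * y⁻¹ = a * b then (1 : ℂ) else 0) =
        if a⁻¹ * (y * x * y⁻¹) ∈ cl then 1 else 0 := by
      intro a _
      rw [← Finset.sum_ite_eq cl (a⁻¹ * (y * x * y⁻¹)) (fun _ => (1 : ℂ))]
      exact Finset.sum_congr rfl fun b _ => if_congr inv_mul_eq_iff_eq_mul.symm rfl rfl
    rw [Finset.sum_congr rfl hin, Finset.sum_boole]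
    refine congrArg Nat.cast (Finset.card_nbij' (fun a => y⁻¹ * a * y) (fun u => y * u * y⁻¹)
      ?_ ?_ (fun a _ => by simp [mul_assoc]) (fun u _ => by simp [mul_assoc]))
    · intro a ha
      simp only [Finset.coe_filter, Set.mem_ofPred_eq, hmem] at ha
      obtain ⟨ha, hb⟩ := ha
      rw [Finset.mem_coe, mem_inverting]
      have ha' : orderOf (y⁻¹ * a * y) = 2 := by simpa using (orderOf_conj' y⁻¹ a).trans ha
      refine ⟨ha', ?_⟩
      have haa : a * a = 1 := by rw [← pow_two, ← ha, pow_orderOf_eq_one]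
      have hbb : (a⁻¹ * (y * x * y⁻¹)) * (a⁻¹ * (y * x * y⁻¹)) = 1 := by
        rw [← pow_two, ← hb, pow_orderOf_eq_one]
      have hai : a⁻¹ = a := inv_eq_of_mul_eq_one_right haa
      rw [hai] at hbb
      have : a * (y * x * y⁻¹) * a⁻¹ = (y * x * y⁻¹)⁻¹ := by
        rw [hai]
        exact (inv_eq_of_mul_eq_one_left (by rw [← hbb]; group)).symm
      calc y⁻¹ * a * y * x * (y⁻¹ * a * y)⁻¹ = y⁻¹ * (a * (y * x * y⁻¹) * a⁻¹) * y := by group
        _ = x⁻¹ := by rw [this]; group
    · intro u hu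
      rw [Finset.mem_coe, mem_inverting] at hu
      simp only [Finset.coe_filter, Set.mem_ofPred_eq, hmem, orderOf_conj']
      refine ⟨hu.1, ?_⟩
      have huu : u * u = 1 := by rw [← pow_two, ← hu.1, pow_orderOf_eq_one]
      have hui : u⁻¹ = u := inv_eq_of_mul_eq_one_right huu
      rw [show (y * u * y⁻¹)⁻¹ * (y * x * y⁻¹) = y * (u⁻¹ * x) * y⁻¹ by group, orderOf_conj', hui,
        orderOf_eq_prime_iff]
      refine ⟨?_, fun h => hx2 ?_⟩
      · rw [pow_two, ← mul_assoc]
        have h2 := hu.2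
        rw [hui] at h2
        rw [h2, inv_mul_cancel]
      · rw [eq_inv_of_mul_eq_one_right h, hui]
        exact hu.1
  simp only [hy, Finset.sum_const, Finset.card_univ, nsmul_eq_mul, ← Nat.card_eq_fintype_card]

omit [Fintype G] in
theorem inverts_pow {x u : G} (h : u * x * u⁻¹ = x⁻¹) (k : ℕ) : u * x ^ k * u⁻¹ = (x ^ k)⁻¹ := by
  rw [← conj_pow, h, inv_pow]

theorem inverting_pow {x : G} {k : ℕ} (hk : (orderOf x).Coprime k) : inverting (x ^ k) = inverting x := by
  ext u
  rw [mem_inverting, mem_inverting]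
  refine and_congr_right fun _ => ⟨fun h => ?_, fun h => inverts_pow h k⟩
  obtain ⟨l, hl⟩ := exists_pow_eq_self_of_coprime hk.symm
  rw [← hl]
  exact inverts_pow h l

theorem geom_root' {n : ℕ} {z : ℂ} (hz : z ^ n = 1) :
    ∑ k ∈ Finset.range n, z ^ k = if z = 1 then (n : ℂ) else 0 := by
  split_ifs with h
  · simp [h]
  · rw [geom_sum_eq h, hz, sub_self, zero_div]

set_option maxHeartbeats 2000000 in
theorem no_189000 [IsSimpleGroup G] [Fintype (Cfsg.IrrCharacter G)] (t : G) (ht : orderOf t = 2)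
    (hinv : ∀ u : G, orderOf u = 2 → IsConj t u) (hH : Nat.card (centralizer ({t} : Set G)) = 120)
    {g : ℕ} (D : NumData (Cfsg.IrrCharacter G) g) (hgG : g = Nat.card G) (hg : g = 189000)
    (hvt : ∀ χ : Cfsg.IrrCharacter G, (χ : G → ℂ) t = (D.v χ : ℂ))
    (hd : ∀ χ : Cfsg.IrrCharacter G, (χ : G → ℂ) 1 = (D.d χ : ℂ)) (ho : D.o = trivChar G)
    (hrow : ∀ x : G, (∀ y : G, (y⁻¹ * x * y) ^ 15 ≠ t) →
      ∀ i, ∑ χ, (D.m i χ : ℂ) * (χ : G → ℂ) x = 0)
    (cfg : ∃ X a b, X ≠ D.o ∧ a ≠ b ∧ a ≠ D.o ∧ b ≠ D.o ∧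
      D.v X = -1 ∧ D.d X = 15 ∧ D.m 1 X = -1 ∧
      D.d a = D.d b ∧ D.v a = 4 ∧ D.v b = -4 ∧ D.m 0 a = 1 ∧ D.m 0 b = -1 ∧
      (∀ χ, χ ≠ a → χ ≠ b → D.m 0 χ = 0) ∧ D.m 1 a = 0 ∧ D.m 1 b = 0 ∧
      (∀ χ, χ ≠ D.o → χ ≠ X → D.m 1 χ = 0 ∨ 7 ∣ D.d χ) ∧
      (∀ χ, χ ≠ D.o → χ ≠ X → χ ≠ a → χ ≠ b → D.v χ = 0 ∨ 7 ∣ D.d χ)) : False := by
  classical
  obtain ⟨X, a, b, hX, hab, hao, hbo, vX, dX, mX, dab, va, vb, m0a, m0b, hrow0, m1a, m1b, hA, hV⟩ := cfg
  have hcard : Nat.card G = 189000 := hgG.symm.trans hg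
  have : Fact (Nat.Prime 7) := ⟨by norm_num⟩
  obtain ⟨x, hx⟩ := exists_prime_orderOf_dvd_card' (G := G) 7 (by rw [hcard]; norm_num)
  have hK : (centralizer ({t} : Set G)).index = 1575 := by
    have h := (centralizer ({t} : Set G)).card_mul_index
    rw [hH, hcard] at h
    omega
  have hxa : X ≠ a := by rintro rfl; omega
  have hxb : X ≠ b := by rintro rfl; omega
  -- vanishing of the characters of degree divisible by seven
  have hvan : ∀ χ : Cfsg.IrrCharacter G, 7 ∣ D.d χ → ∀ y : G, orderOf y = 7 → (χ : G → ℂ) y = 0 := by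
    intro χ hχ y hy
    obtain ⟨n, ρ, hρ, he⟩ := χ.2
    haveI := hρ
    have h1 := hd χ
    rw [← he, Representation.char_one] at h1
    have h2 : Module.finrank ℂ (Fin n → ℂ) = D.d χ := by exact_mod_cast h1
    rw [← he]
    exact CfsgLib.Char.character_eq_zero_of_defect_zero
      (fun θ hθ hE => CfsgLib.Brauer.isGeneralizedCharacter_of_elementary hθ hE) ρ (p := 7) (n := 1)
      (by norm_num) (by rw [hcard]; norm_num) (by rw [hcard]; norm_num) (by rw [h2, pow_one]; exact hχ)
      (by rw [hy])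
  -- the relations from the first two rows
  have hzero : ∀ y : G, orderOf y = 7 → ∀ i, ∑ χ, (D.m i χ : ℂ) * (χ : G → ℂ) y = 0 := by
    intro y hy
    refine hrow y fun z hz => ?_
    have h1 : orderOf ((z⁻¹ * y * z) ^ 15) = 7 := by
      have h2 : orderOf (z⁻¹ * y * z) = 7 := by simpa using (orderOf_conj' z⁻¹ y).trans hy
      rw [Nat.Coprime.orderOf_pow (by rw [h2]; norm_num), h2]
    rw [hz, ht] at h1
    omega
  have heq0 : ∀ y : G, orderOf y = 7 → (a : G → ℂ) y = (b : G → ℂ) y := by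
    intro y hy
    have h := hzero y hy 0
    rw [← Finset.sum_subset (Finset.subset_univ {a, b}) (fun χ _ hn => ?_), Finset.sum_pair hab, m0a, m0b] at h
    · push_cast at h
      linear_combination h
    · simp only [Finset.mem_insert, Finset.mem_singleton, not_or] at hn
      rw [hrow0 χ hn.1 hn.2, Int.cast_zero, zero_mul]
  have hoy : ∀ y : G, (D.o : G → ℂ) y = 1 := fun y => by rw [ho, trivChar_apply]
  have heq1 : ∀ y : G, orderOf y = 7 → (X : G → ℂ) y = 1 := by
    intro y hy
    have h := hzero y hy 1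
    rw [← Finset.sum_subset (Finset.subset_univ {D.o, X}) (fun χ _ hn => ?_), Finset.sum_pair hX.symm,
      D.triv, mX, hoy, show trv 1 = 1 from rfl] at h
    · push_cast at h
      linear_combination -h
    · simp only [Finset.mem_insert, Finset.mem_singleton, not_or] at hn
      rcases hA χ hn.1 hn.2 with h0 | h7
      · rw [h0, Int.cast_zero, zero_mul]
      · rw [hvan χ h7 y hy, mul_zero]
  set n := (inverting x).card with hn
  set d := D.d a with hda
  have hd0 : (d : ℂ) ≠ 0 := Nat.cast_ne_zero.2 (D.d_pos a).ne'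
  have hval : ∀ y : G, orderOf y = 7 → (inverting y).card = n →
      (a : G → ℂ) y = ((d : ℂ) * ((n : ℂ) - 14)) / 420 := by
    intro y hy hny
    have h := count_inverting t y ht hinv (by omega) (by omega)
    rw [hK, hcard, hny] at h
    simp only [hvt, hd] at h
    rw [← Finset.sum_subset (Finset.subset_univ {D.o, X, a, b}) (fun χ _ hn' => ?_),
      Finset.sum_insert (by simp [hX.symm, hao.symm, hbo.symm]),
      Finset.sum_insert (by simp [hxa, hxb]), Finset.sum_pair hab, hoy, D.v_o, D.d_o, heq1 y hy, vX, dX, va,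
      vb, ← heq0 y hy, ← dab, ← hda] at h
    · simp only [map_one] at h
      push_cast at h
      have h2 : conj ((a : G → ℂ) y) = (d : ℂ) * ((n : ℂ) - 14) / 420 := by
        field_simp at h ⊢
        linear_combination -h / 2835000
      have h3 := congrArg conj h2
      rw [Complex.conj_conj] at h3
      rw [h3]
      simp [map_div₀, map_ofNat]
    · simp only [Finset.mem_insert, Finset.mem_singleton, not_or] at hn'
      obtain ⟨n1, n2, n3, n4⟩ := hn'
      rcases hV χ n1 n2 n3 n4 with h0 | h7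
      · rw [h0]; simp
      · rw [hvan χ h7 y hy]; simp
  -- restriction to the group of order seven
  obtain ⟨A, hA7⟩ : ∃ A : ℕ, d * (56 + n) = 490 * A := by
    obtain ⟨k, ρ, hρ, he⟩ := a.2
    obtain ⟨ε, hε, -, hpow, -⟩ := exists_eigenvalues ρ x
    refine ⟨(Finset.univ.filter fun i => ε i = 1).card, ?_⟩
    have h1 : ∑ j ∈ Finset.range 7, ρ.character (x ^ j) =
        (7 : ℂ) * (Finset.univ.filter fun i => ε i = 1).card := by
      simp only [hpow]
      rw [Finset.sum_comm, Finset.sum_congr rfl fun i _ => geom_root' (n := 7) (z := ε i)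
        (by have := hε i; rwa [hx] at this), ← Finset.sum_filter, Finset.sum_const, nsmul_eq_mul,
        mul_comm]
      norm_num
    have h0 : (0 : ℕ) ∈ Finset.range 7 := Finset.mem_range.2 (by norm_num)
    rw [← Finset.add_sum_erase _ _ h0, Finset.sum_congr rfl (g := fun _ => ((d : ℂ) * ((n : ℂ) - 14)) / 420)
      (fun j hj => by
        obtain ⟨hj0, hj7⟩ := Finset.mem_erase.1 hj
        rw [Finset.mem_range] at hj7
        have hco : (orderOf x).Coprime j := by
          rw [hx, Nat.Prime.coprime_iff_not_dvd (by norm_num)]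
          omega
        rw [he]
        exact hval _ (by rw [Nat.Coprime.orderOf_pow hco, hx]) (by rw [inverting_pow hco])),
      Finset.sum_const, Finset.card_erase_of_mem h0, Finset.card_range, pow_zero, he, hd,
      show (7 - 1 : ℕ) = 6 from rfl, nsmul_eq_mul, ← hda] at h1
    have h2 : ((d * (56 + n) : ℕ) : ℂ) = ((490 * (Finset.univ.filter fun i => ε i = 1).card : ℕ) : ℂ) := by
      push_cast at h1 ⊢
      linear_combination (70 : ℂ) * h1
    exact_mod_cast h2
  obtain ⟨hc1, hc2, hc3⟩ := D.cong b hbo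
  rw [vb, ← dab] at hc1 hc2 hc3
  have hdvd : d ∣ 189000 := hg ▸ D.d_dvd a
  -- the centraliser of `x`
  set C := centralizer ({x} : Set G) with hC
  have hmemC : ∀ {c : G}, c ∈ C ↔ c * x = x * c := fun {c} => mem_centralizer_singleton_iff
  have hodd : ¬ 2 ∣ Nat.card C := by
    intro h
    obtain ⟨u, hu⟩ := exists_prime_orderOf_dvd_card' (G := C) 2 h
    obtain ⟨c, hc⟩ := isConj_iff.1 (hinv (u : G) (by rwa [Subgroup.orderOf_coe]))
    have hmem : c⁻¹ * x * c ∈ centralizer ({t} : Set G) := by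
      rw [mem_centralizer_singleton_iff]
      have hcx := hmemC.1 u.2
      rw [← hc] at hcx
      calc c⁻¹ * x * c * t = c⁻¹ * (x * (c * t * c⁻¹)) * c := by group
        _ = c⁻¹ * (c * t * c⁻¹ * x) * c := by rw [hcx]
        _ = t * (c⁻¹ * x * c) := by group
    have h7 := Subgroup.orderOf_dvd_natCard _ hmem
    rw [show c⁻¹ * x * c = c⁻¹ * x * c⁻¹⁻¹ by group, orderOf_conj', hx, hH] at h7
    norm_num at h7
  have hCdvd : Nat.card C ∣ 23625 := by
    have h8 : Nat.card C ∣ 8 * 23625 := by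
      rw [show 8 * 23625 = Nat.card G by rw [hcard]]
      exact card_subgroup_dvd_card C
    refine Nat.Coprime.dvd_of_dvd_mul_left ?_ h8
    exact Nat.Coprime.pow_right 3 ((Nat.prime_two.coprime_iff_not_dvd.2 hodd).symm)
  -- `n` is zero or the size of an orbit of the centraliser
  have horbit : ∀ u ∈ inverting x, Nat.card C = n * Nat.card (centralizer ({u} : Set G) ⊓ C : Subgroup G) := by
    intro u hu
    obtain ⟨hu2, hux⟩ := mem_inverting.1 hu
    let φ : C → G := fun c => (c : G) * u * (c : G)⁻¹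
    have hfib : Finset.univ.image φ = inverting x := by
      have hin : ∀ c : C, φ c ∈ inverting x := by
        intro c
        rw [mem_inverting, orderOf_conj']
        refine ⟨hu2, ?_⟩
        have hcx : (c : G) * x * (c : G)⁻¹ = x := mul_inv_eq_iff_eq_mul.2 (hmemC.1 c.2)
        have hcx' : (c : G)⁻¹ * x * c = x := by
          calc (c : G)⁻¹ * x * c = (c : G)⁻¹ * ((c : G) * x * (c : G)⁻¹) * c := by rw [hcx]
            _ = x := by group
        calc (c : G) * u * (c : G)⁻¹ * x * ((c : G) * u * (c : G)⁻¹)⁻¹ =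
            (c : G) * (u * ((c : G)⁻¹ * x * c) * u⁻¹) * (c : G)⁻¹ := by group
          _ = x⁻¹ := by rw [hcx', hux, ← conj_inv, hcx]
      refine Finset.Subset.antisymm (Finset.image_subset_iff.2 fun c _ => hin c) fun v hv => ?_
      obtain ⟨hv2, hvx⟩ := mem_inverting.1 hv
      -- two involutions inverting an element of odd order are conjugate in its centraliser
      have hvv : v * v = 1 := by rw [← pow_two, ← hv2, pow_orderOf_eq_one]
      have huu : u * u = 1 := by rw [← pow_two, ← hu2, pow_orderOf_eq_one]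
      have hvi : v⁻¹ = v := inv_eq_of_mul_eq_one_right hvv
      have hui : u⁻¹ = u := inv_eq_of_mul_eq_one_right huu
      have huv : v * u ∈ C := by
        rw [hmemC]
        calc v * u * x = v * (u * x * u⁻¹) * u := by group
          _ = v * x⁻¹ * u := by rw [hux]
          _ = (v * x * v⁻¹)⁻¹ * (v * u) := by group
          _ = x * (v * u) := by rw [hvx, inv_inv]
      obtain ⟨m, hm⟩ : ∃ m, orderOf (v * u) = 2 * m + 1 := by
        refine Nat.not_even_iff_odd.1 fun he => hodd ?_
        exact (even_iff_two_dvd.1 he).trans (Subgroup.orderOf_dvd_natCard _ huv)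
      refine Finset.mem_image.2 ⟨⟨(v * u) ^ (m + 1), pow_mem huv _⟩, Finset.mem_univ _, ?_⟩
      show (v * u) ^ (m + 1) * u * ((v * u) ^ (m + 1))⁻¹ = v
      have hcj : u * (v * u) * u⁻¹ = (v * u)⁻¹ := by
        rw [mul_inv_rev, hui, hvi, mul_assoc, mul_assoc v u u, huu, mul_one]
      have hp := inverts_pow hcj (m + 1)
      calc (v * u) ^ (m + 1) * u * ((v * u) ^ (m + 1))⁻¹
          = (v * u) ^ (m + 1) * u * (u * (v * u) ^ (m + 1) * u⁻¹) := by rw [hp]
        _ = (v * u) ^ (m + 1) * (u * u) * (v * u) ^ (m + 1) * u⁻¹ := by group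
        _ = (v * u) ^ (2 * m + 1) * (v * u) * u⁻¹ := by
            rw [huu, mul_one, ← pow_succ, ← pow_add, show m + 1 + (m + 1) = 2 * m + 1 + 1 by omega]
        _ = v := by rw [← hm, pow_orderOf_eq_one]; group
    rw [Nat.card_eq_fintype_card, ← Finset.card_univ, Finset.card_eq_sum_card_image φ]
    rw [hfib, Finset.sum_const_nat (m := Nat.card (centralizer ({u} : Set G) ⊓ C : Subgroup G))]
    intro v hv
    rw [← hfib] at hv
    obtain ⟨c, -, rfl⟩ := Finset.mem_image.1 hv
    rw [← Fintype.card_subtype, ← Nat.card_eq_fintype_card]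
    have hto : ∀ z : (centralizer ({u} : Set G) ⊓ C : Subgroup G),
        φ ⟨(c : G) * (z : G), C.mul_mem c.2 z.2.2⟩ = φ c := by
      intro z
      have hz : (z : G) * u * (z : G)⁻¹ = u := mul_inv_eq_iff_eq_mul.2 (mem_centralizer_singleton_iff.1 z.2.1)
      calc (c : G) * (z : G) * u * ((c : G) * (z : G))⁻¹ = (c : G) * ((z : G) * u * (z : G)⁻¹) * (c : G)⁻¹ := by
            group
        _ = _ := by rw [hz]
    have hfro : ∀ y : C, φ y = φ c → (c : G)⁻¹ * (y : G) ∈ centralizer ({u} : Set G) := by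
      intro y hy
      have hy' : (y : G) * u * (y : G)⁻¹ = (c : G) * u * (c : G)⁻¹ := hy
      rw [mem_centralizer_singleton_iff, ← mul_inv_eq_iff_eq_mul]
      calc _ = (c : G)⁻¹ * ((y : G) * u * (y : G)⁻¹) * c := by group
        _ = u := by rw [hy']; group
    exact (Nat.card_congr
      { toFun := fun z => ⟨⟨(c : G) * (z : G), C.mul_mem c.2 z.2.2⟩, hto z⟩
        invFun := fun y => ⟨(c : G)⁻¹ * ((y : C) : G), hfro y.1 y.2, C.mul_mem (C.inv_mem c.2) y.1.2⟩
        left_inv := fun z => Subtype.ext (inv_mul_cancel_left (c : G) (z : G))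
        right_inv := fun y => Subtype.ext (Subtype.ext (mul_inv_cancel_left (c : G) ((y : C) : G))) }).symm
  have h7 : ¬ 7 ∣ d := by
    intro h
    have h1 := hval x hx rfl
    rw [hvan a h x hx] at h1
    have h2 : ((n : ℂ) - 14) = 0 := by
      have := (mul_eq_zero.1 ((div_eq_zero_iff.1 h1.symm).resolve_right (by norm_num))).resolve_left hd0
      exact this
    have h14 : n = 14 := by exact_mod_cast (sub_eq_zero.1 h2)
    obtain ⟨u, hu⟩ := Finset.card_pos.1 (show 0 < n by omega)
    exact hodd ⟨7 * Nat.card (centralizer ({u} : Set G) ⊓ C : Subgroup G), by rw [horbit u hu, h14]; ring⟩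
  have hn7 : 7 ∣ 56 + n :=
    ((Nat.Prime.dvd_mul (by norm_num)).1 ⟨70 * A, by rw [hA7]; ring⟩).resolve_left h7
  by_cases hn0 : n = 0
  · refine h7 ?_
    rw [hn0] at hA7
    omega
  obtain ⟨u, hu⟩ := Finset.card_pos.1 (Nat.pos_of_ne_zero hn0)
  set c := Nat.card (centralizer ({u} : Set G) ⊓ C : Subgroup G) with hc
  have hCn : Nat.card C = n * c := horbit u hu
  have hc120 : c ∣ 120 := by
    obtain ⟨z, hz⟩ := isConj_iff.1 (hinv u (mem_inverting.1 hu).1)
    have h1 : Nat.card (centralizer ({u} : Set G)) = 120 := by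
      rw [← hH]
      refine Nat.card_congr
        { toFun := fun y => ⟨z⁻¹ * (y : G) * z, ?_⟩
          invFun := fun y => ⟨z * (y : G) * z⁻¹, ?_⟩
          left_inv := fun y => Subtype.ext (by group)
          right_inv := fun y => Subtype.ext (by group) }
      · rw [mem_centralizer_singleton_iff]
        have := mem_centralizer_singleton_iff.1 y.2
        have htz : t = z⁻¹ * u * z := by rw [← hz]; group
        calc z⁻¹ * (y : G) * z * t = z⁻¹ * ((y : G) * u) * z := by rw [htz]; group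
          _ = z⁻¹ * (u * (y : G)) * z := by rw [this]
          _ = t * (z⁻¹ * (y : G) * z) := by rw [htz]; group
      · rw [mem_centralizer_singleton_iff, ← hz]
        have := mem_centralizer_singleton_iff.1 y.2
        calc z * (y : G) * z⁻¹ * (z * t * z⁻¹) = z * ((y : G) * t) * z⁻¹ := by group
          _ = z * (t * (y : G)) * z⁻¹ := by rw [this]
          _ = _ := by group
    exact h1 ▸ card_dvd_of_le inf_le_left
  have hcol : 2 * (d * d) * ((n : ℤ) - 14) ^ 2 + 2 * 176400 ≤ 176400 * (Nat.card C : ℤ) := by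
    have h := column_orthogonality x x
    rw [if_pos (IsConj.refl _)] at h
    have hre := congrArg Complex.re h
    rw [Complex.re_sum, Complex.natCast_re] at hre
    have hle := Finset.sum_le_sum_of_subset_of_nonneg (f := fun χ : Cfsg.IrrCharacter G =>
      ((χ : G → ℂ) x * conj ((χ : G → ℂ) x)).re) (Finset.subset_univ {D.o, X, a, b})
      (fun χ _ _ => by rw [Complex.mul_conj, Complex.ofReal_re]; exact Complex.normSq_nonneg _)
    rw [hre, Finset.sum_insert (by simp [hX.symm, hao.symm, hbo.symm]),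
      Finset.sum_insert (by simp [hxa, hxb]), Finset.sum_pair hab, hoy, heq1 x hx, ← heq0 x hx,
      hval x hx rfl, show ((d : ℂ) * ((n : ℂ) - 14)) / 420 = (((d : ℝ) * ((n : ℝ) - 14) / 420 : ℝ) : ℂ) by
        push_cast; ring] at hle
    simp only [map_one, mul_one, Complex.one_re, Complex.conj_ofReal, ← Complex.ofReal_mul,
      Complex.ofReal_re] at hle
    have hR : ((2 * (d * d) * ((n : ℤ) - 14) ^ 2 + 2 * 176400 : ℤ) : ℝ) ≤ ((176400 * (Nat.card C : ℤ) : ℤ) : ℝ) := by
      push_cast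
      nlinarith [hle]
    exact_mod_cast hR
  have habs : (d : ℤ) * ((n : ℤ) - 14) ≤ 420 * d := by
    have h := IsChar.norm_le (IsIrr.isCharacter a.2) x
    rw [hval x hx rfl, hd, ← hda, Complex.norm_natCast,
      show ((d : ℂ) * ((n : ℂ) - 14)) / 420 = (((d : ℝ) * ((n : ℝ) - 14) / 420 : ℝ) : ℂ) by
        push_cast; ring, Complex.norm_real, Real.norm_eq_abs] at h
    have h2 := (abs_le.1 h).2
    rw [div_le_iff₀ (by norm_num)] at h2
    have hR : (((d : ℤ) * ((n : ℤ) - 14) : ℤ) : ℝ) ≤ ((420 * d : ℤ) : ℝ) := by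
      push_cast
      linarith
    exact_mod_cast hR
  have hdpos : 0 < d := D.d_pos a
  have hn434 : n ≤ 434 := by nlinarith
  have hn49 : (56 + n) % 49 = 0 := by
    have h : 49 ∣ d * (56 + n) := ⟨10 * A, by rw [hA7]; ring⟩
    exact Nat.mod_eq_zero_of_dvd ((Nat.Coprime.pow_left 2 ((Nat.Prime.coprime_iff_not_dvd (by norm_num)).2 h7)).dvd_of_dvd_mul_left h)
  have hnC : n ∣ 23625 := Dvd.dvd.trans ⟨c, hCn⟩ hCdvd
  have hn189 : n = 189 := by
    obtain ⟨k, hk'⟩ : ∃ k, n = 49 * k + 42 := ⟨n / 49, by omega⟩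
    rw [hk'] at hnC ⊢
    have hk : k < 9 := by omega
    revert hnC
    interval_cases k <;> norm_num
  rw [hn189] at hcol hA7
  have hc15 : c = 1 ∨ c = 5 := by
    have h1 : c ∣ 125 := Nat.dvd_of_mul_dvd_mul_left (show 0 < 189 by norm_num)
      (show 189 * c ∣ 189 * 125 by rw [← hn189, ← hCn]; simpa [hn189] using hCdvd)
    have h2 : c ∣ 5 := by
      have := Nat.dvd_gcd h1 hc120
      norm_num at this
      exact this
    exact (Nat.dvd_prime (by norm_num)).1 h2
  have hd52 : d ≤ 52 := by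
    rw [hCn, hn189] at hcol
    push_cast at hcol
    have hd2 : (d : ℤ) * d < 53 * 53 := by
      rcases hc15 with h | h <;> rw [h] at hcol <;> push_cast at hcol <;> linarith
    by_contra hh
    have := Nat.mul_le_mul (show 53 ≤ d by omega) (show 53 ≤ d by omega)
    have hd2' : d * d < 53 * 53 := by exact_mod_cast hd2
    omega
  have hd36 : d = 36 := by
    obtain ⟨j, hj⟩ : ∃ j, d = 8 * j + 4 := ⟨d / 8, by omega⟩
    have : d = 28 ∨ d = 36 ∨ d = 44 ∨ d = 52 := by omega
    rcases this with h | h | h | h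
    · exact absurd ⟨4, h⟩ h7
    · exact h
    · rw [h] at hdvd; norm_num at hdvd
    · rw [h] at hdvd; norm_num at hdvd
  rw [hd36] at hcol
  have hC945 : Nat.card C = 945 := by
    rw [hCn, hn189] at hcol ⊢
    rcases hc15 with h | h
    · exfalso; rw [h] at hcol; norm_num at hcol
    · rw [h]
  -- the normaliser of the subgroup of order seven
  set P := zpowers x with hP
  set N := normalizer (P : Set G) with hN
  have hP7 : Nat.card P = 7 := by rw [hP, Nat.card_zpowers, hx]
  have hCP : centralizer (P : Set G) = C := by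
    rw [hP, hC, zpowers_eq_closure, centralizer_closure]
  have hCN : C ≤ N := by rw [← hCP]; exact centralizer_le_normalizer _
  have huN : u ∈ N := by
    obtain ⟨hu2, hux⟩ := mem_inverting.1 hu
    rw [hN, mem_normalizer_iff]
    intro y
    have hfwd : ∀ y ∈ P, u * y * u⁻¹ ∈ P := by
      intro y hy
      rw [hP, mem_zpowers_iff] at hy ⊢
      obtain ⟨k, rfl⟩ := hy
      exact ⟨-k, by rw [← conj_zpow, hux, inv_zpow, zpow_neg]⟩
    refine ⟨hfwd y, fun h => ?_⟩
    have := hfwd _ h
    have huu : u * u = 1 := by rw [← pow_two, ← hu2, pow_orderOf_eq_one]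
    have hui : u⁻¹ = u := inv_eq_of_mul_eq_one_right huu
    rw [hui] at this
    simpa [mul_assoc, huu, ← mul_assoc u u] using this
  have hNdvd : 1890 ∣ Nat.card N := by
    refine Nat.Coprime.mul_dvd_of_dvd_of_dvd (by norm_num : Nat.Coprime 2 945) ?_ (hC945 ▸ card_dvd_of_le hCN)
    exact (mem_inverting.1 hu).1 ▸ Subgroup.orderOf_dvd_natCard _ huN
  have hN6 : Nat.card N ∣ 945 * 6 := by
    have key := card_dvd_of_injective _ (QuotientGroup.kerLift_injective P.normalizerMonoidHom)
    have hcyc : IsCyclic P := by rw [hP]; infer_instance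
    rw [normalizerMonoidHom_ker, ← index, ← relIndex, hcyc.card_mulAut, hP7,
      Nat.totient_prime (by norm_num), hCP] at key
    rw [← (C.subgroupOf N).card_mul_index, Nat.card_congr (subgroupOfEquivOfLe hCN).toEquiv, hC945]
    exact Nat.mul_dvd_mul_left _ key
  obtain ⟨Q, hQ⟩ : ∃ Q : Sylow 7 G, (Q : Subgroup G) = P := by
    obtain ⟨Q, hQ⟩ := (IsPGroup.of_card (n := 1) (by rw [hP7, pow_one]) : IsPGroup 7 P).exists_le_sylow
    refine ⟨Q, (eq_of_le_of_card_ge hQ ?_).symm⟩
    rw [hP7]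
    obtain ⟨k, hk⟩ := Q.isPGroup'.exists_card_eq
    have hdv : 7 ^ k ∣ 189000 := by rw [← hk, ← hcard]; exact card_subgroup_dvd_card _
    have hk2 : k ≤ 1 := by
      by_contra h
      have : 7 ^ 2 ∣ 189000 := (pow_dvd_pow 7 (by omega)).trans hdv
      norm_num at this
    rw [hk]
    interval_cases k <;> norm_num
  have hS : Nat.card (Sylow 7 G) = N.index := by rw [Q.card_eq_index_normalizer, hN, ← hQ]; rfl
  have hmod : Nat.card (Sylow 7 G) % 7 = 1 := card_sylow_modEq_one 7 G
  have hNI := N.card_mul_index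
  rw [hcard, ← hS] at hNI
  obtain ⟨j, hj⟩ := hNdvd
  have hj3 : j ∣ 3 := by
    rw [hj] at hN6
    exact Nat.dvd_of_mul_dvd_mul_left (show 0 < 1890 by norm_num) (by simpa using hN6)
  rcases (Nat.dvd_prime (by norm_num)).1 hj3 with rfl | rfl <;> rw [hj] at hNI <;> omega

end CfsgLib.Recog.J1Order
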