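import Mathlib
import Cfsg.Agent.Lib.Char.Exceptional.Virtual
import Cfsg.Agent.Lib.Char.Exceptional.TISet
import Cfsg.Agent.Lib.Char.Complete
import Cfsg.Agent.Lib.Char.Perm

/-!
Owner: helper29. Four special generalized characters of `Z₂ × A₅`.
-/

set_option autoImplicit false
set_option Elab.async false
set_option maxRecDepth 100000

open scoped ComplexConjugate
open CfsgLib.Char CfsgLib.Char.Exceptional

namespace CfsgLib.Recog.J1Order

/-- The group of even permutations of five points. -/
abbrev A5 : Type := alternatingGroup (Fin 5)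

/-- The model of the centraliser. -/
abbrev Mdl : Type := Multiplicative (ZMod 2) × A5

/-- A five-cycle. -/
def c0 : A5 := ⟨finRotate 5, by rw [Equiv.Perm.mem_alternatingGroup]; decide +kernel⟩

/-- The conjugacy class number: `1`, involutions, order three, the two classes of order five. -/
def cls (g : A5) : Fin 5 :=
  if g = 1 then 0 else if g * g = 1 then 1 else if g * g * g = 1 then 2
  else if ∃ y : A5, y * c0 * y⁻¹ = g then 3 else 4

/-- The class sizes. -/
def clsCard : Fin 5 → ℕ := ![1, 15, 20, 12, 12]

theorem card_cls : ∀ j, (Finset.univ.filter fun g : A5 => cls g = j).card = clsCard j := by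
  decide +kernel

theorem cls_inv : ∀ g : A5, cls g⁻¹ = cls g := by decide +kernel

theorem cls_ne_one_iff : ∀ g : A5, cls g ≠ 1 ↔ g ^ 15 = 1 := by decide +kernel

theorem cls_one : cls (1 : A5) = 0 := by decide +kernel

theorem sum_cls {M : Type*} [AddCommMonoid M] (F : Fin 5 → M) :
    ∑ g : A5, F (cls g) = ∑ j, clsCard j • F j := by
  rw [← Finset.sum_fiberwise (g := cls)]
  refine Finset.sum_congr rfl fun j _ => ?_
  rw [Finset.sum_congr rfl (g := fun _ => F j) (fun g hg => by rw [(Finset.mem_filter.1 hg).2]),
    Finset.sum_const, card_cls]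

/-- The cyclic subgroup of order five as a homomorphism. -/
def hc : Multiplicative (ZMod 5) →* A5 where
  toFun y := c0 ^ (Multiplicative.toAdd y).val
  map_one' := by decide +kernel
  map_mul' := by decide +kernel

theorem hc_injective : Function.Injective hc := by decide +kernel

/-- The number of elements conjugating `g` to a given power of the five-cycle. -/
def conjTbl : Fin 5 → Fin 5 → ℕ :=
  ![![60, 0, 0, 0, 0], ![0, 0, 0, 0, 0], ![0, 0, 0, 0, 0], ![0, 5, 0, 0, 5], ![0, 0, 5, 5, 0]]

theorem card_conj : ∀ (g : A5) (k : Fin 5),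
    (Finset.univ.filter fun y : A5 => y⁻¹ * g * y = c0 ^ k.val).card =
      conjTbl (cls g) k := by
  decide +kernel

/-- The linear character of the cyclic group given by a fifth root of unity. -/
noncomputable def rootHom (w : ℂ) (hw : w ^ 5 = 1) : Multiplicative (ZMod 5) →* ℂˣ :=
  MonoidHom.toHomUnits
    { toFun := fun y => w ^ (Multiplicative.toAdd y).val
      map_one' := by simp
      map_mul' := fun a b => by
        rw [toAdd_mul, ZMod.val_add, ← pow_add, ← pow_eq_pow_mod _ hw] }

/-- The values of the character induced from the cyclic group. -/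
noncomputable def indVal (w : ℂ) : Fin 5 → ℂ := ![12, 0, 0, w + w ^ 4, w ^ 2 + w ^ 3]

theorem isGen_indVal (w : ℂ) (hw : w ^ 5 = 1) :
    Cfsg.IsGeneralizedCharacter A5 (fun g => indVal w (cls g)) := by
  classical
  set lam : (hc.range) → ℂ := fun z => (rootHom w hw ((MonoidHom.ofInjective hc_injective).symm z) : ℂ)
    with hlam
  have hl : Cfsg.IsGeneralizedCharacter hc.range lam :=
    IsGen.of_irr (isIrrCharacter_linear
      ((rootHom w hw).comp (MonoidHom.ofInjective hc_injective).symm.toMonoidHom))
  have hext : ∀ z : A5, Cfsg.extendByZero hc.range lam z =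
      ∑ k : Fin 5, if z = c0 ^ k.val then w ^ k.val else 0 := by
    intro z
    by_cases hz : z ∈ hc.range
    · rw [extendByZero_of_mem hc.range lam hz]
      obtain ⟨y, rfl⟩ := hz
      have h1 : (MonoidHom.ofInjective hc_injective).symm ⟨hc y, ⟨y, rfl⟩⟩ = y :=
        (MulEquiv.symm_apply_eq _).2 rfl
      refine Eq.trans ?_ (Finset.sum_eq_single (s := (Finset.univ : Finset (Fin 5)))
        (f := fun k : Fin 5 => if hc y = c0 ^ k.val then w ^ k.val else 0)
        (Multiplicative.toAdd y : ZMod 5) ?_ ?_).symm
      · refine Eq.trans ?_ (if_pos (show hc y = c0 ^ (Multiplicative.toAdd y).val from rfl)).symm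
        have h3 : ∀ z : hc.range, lam z =
            (rootHom w hw ((MonoidHom.ofInjective hc_injective).symm z) : ℂ) := fun z => rfl
        exact (h3 _).trans (congrArg (fun v => (rootHom w hw v : ℂ)) h1)
      · intro k _ hk
        rw [if_neg]
        intro h
        have h2 : hc y = hc (Multiplicative.ofAdd (k : ZMod 5)) := h
        exact hk (by rw [hc_injective h2]; rfl)
      · exact fun h => absurd (Finset.mem_univ _) h
    · rw [extendByZero_of_notMem hc.range lam hz, Finset.sum_eq_zero]
      intro k _
      rw [if_neg]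
      exact fun h => hz ⟨Multiplicative.ofAdd (k : ZMod 5), h.symm⟩
  have h5 : (Nat.card hc.range : ℂ) = 5 := by
    rw [← Nat.card_congr (MonoidHom.ofInjective hc_injective).toEquiv]
    simp
  have hev : ∀ g, Cfsg.indFun hc.range lam g = indVal w (cls g) := by
    intro g
    simp only [Cfsg.indFun, hext, h5]
    rw [Finset.sum_comm]
    simp only [← Finset.sum_filter, Finset.sum_const, card_conj, nsmul_eq_mul]
    rw [Fin.sum_univ_five]
    generalize cls g = j
    fin_cases j <;> simp [conjTbl, indVal] <;> ring
  have h := IsGen.indFun hc.range hl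
  rwa [show (fun g => indVal w (cls g)) = Cfsg.indFun hc.range lam from funext fun g => (hev g).symm]

/-- The number of fixed points minus one. -/
def fourVal : Fin 5 → ℤ := ![4, 0, 1, -1, -1]

theorem fixed_eq : ∀ g : A5,
    ((Finset.univ.filter fun x : Fin 5 => (g : Equiv.Perm (Fin 5)) x = x).card : ℤ) = fourVal (cls g) + 1 := by
  decide +kernel

theorem isGen_four : Cfsg.IsGeneralizedCharacter A5 (fun g => (fourVal (cls g) : ℂ)) := by
  have h := IsGen.sub (IsGen.of_char (isCharacter_permChar (G := A5) (X := Fin 5))) isGen_one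
  convert h using 1
  funext g
  simp only [Pi.sub_apply, permChar]
  have h2 : (Nat.card (MulAction.fixedBy (Fin 5) g) : ℂ) = ((fourVal (cls g) + 1 : ℤ) : ℂ) := by
    rw [← fixed_eq g, Int.cast_natCast, ← Fintype.card_subtype, ← Nat.card_eq_fintype_card]
    exact congrArg Nat.cast (Nat.card_congr (Equiv.refl _))
  rw [h2]
  push_cast
  ring

/-- The indices of the four special functions. -/
abbrev Idx : Type := Fin 4

/-- The four special functions on the alternating group, as integral combinations of `1` and `φ`. -/
def th : Idx → Fin 5 → ℤ × ℤ :=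
  ![![(4, 0), (0, 0), (1, 0), (-1, 0), (-1, 0)],
    ![(4, 0), (0, 0), (1, 0), (1, 1), (2, -1)],
    ![(4, 0), (0, 0), (1, 0), (2, -1), (1, 1)],
    ![(4, 0), (0, 0), (-2, 0), (-1, 0), (-1, 0)]]

/-- Evaluation of an integral pair. -/
def pev (φ : ℂ) (p : ℤ × ℤ) : ℂ := p.1 + p.2 * φ

theorem isGen_th (z : ℂ) (hz : z ^ 5 = 1) (hz1 : z ≠ 1) (i : Idx) :
    Cfsg.IsGeneralizedCharacter A5 (fun g => pev (1 + z + z ^ 4) (th i (cls g))) := by
  have hsum : 1 + z + z ^ 2 + z ^ 3 + z ^ 4 = 0 := by
    have h : (z - 1) * (1 + z + z ^ 2 + z ^ 3 + z ^ 4) = 0 := by linear_combination hz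
    exact (mul_eq_zero.1 h).resolve_left (sub_ne_zero.2 hz1)
  have hz2 : (z ^ 2) ^ 5 = 1 := by rw [← pow_mul, mul_comm, pow_mul, hz, one_pow]
  have I1 := isGen_indVal z hz
  have I2 := isGen_indVal (z ^ 2) hz2
  have F := isGen_four
  have five := IsGen.add (IsGen.sub (IsGen.sub (IsGen.add I1 I2) (IsGen.mul F F)) F) isGen_one
  fin_cases i
  · convert F using 1
    funext g
    generalize cls g = j
    fin_cases j <;> simp [th, pev, fourVal]
  · convert IsGen.add isGen_one (IsGen.sub (IsGen.sub I1 F) five) using 1
    funext g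
    simp only [Pi.add_apply, Pi.sub_apply, Pi.mul_apply]
    generalize cls g = j
    fin_cases j <;> simp [th, pev, fourVal, indVal] <;> grind
  · convert IsGen.add isGen_one (IsGen.sub (IsGen.sub I2 F) five) using 1
    funext g
    simp only [Pi.add_apply, Pi.sub_apply, Pi.mul_apply]
    generalize cls g = j
    fin_cases j <;> simp [th, pev, fourVal, indVal] <;> grind
  · convert IsGen.sub five isGen_one using 1
    funext g
    simp only [Pi.add_apply, Pi.sub_apply, Pi.mul_apply]
    generalize cls g = j
    fin_cases j <;> simp [th, pev, fourVal, indVal] <;> grind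

end CfsgLib.Recog.J1Order
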