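import Mathlib

/-!
Owner: helper29. The finite search behind the order of a group with centraliser `Z₂ × A₅`.
-/

set_option autoImplicit false
set_option Elab.async false
set_option maxRecDepth 100000

namespace CfsgLib.Recog.J1Order

/-- The conditions on a signed degree `r` of a character with value `k` (signed alike) at the involution. -/
abbrev Sg (g k r : ℤ) : Prop :=
  r ≠ 0 ∧ g % r = 0 ∧ r * r ≤ g ∧ (r - k) % 8 = 0 ∧
    ((k + 8 ≤ r ∧ 0 ≤ r + 7 * k) ∨ (r ≤ k - 8 ∧ r + 7 * k ≤ 0))

/-- The conditions on the group order. -/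
abbrev Og (g : ℤ) : Prop := g % 120 = 0 ∧ g % 16 ≠ 0

/-- The inner test of the first configuration. -/
def e1in (g r a b u : ℤ) : Bool :=
  !decide (g * (-(r * u * (1 + r - u)) - u * (1 + r - u) + 25 * (r * (1 + r - u)) + 25 * (r * u)) =
      -86400 * (r * u * (1 + r - u)) ∧ Sg g 5 u ∧ Sg g 5 (1 + r - u)) ||
    decide (g = 175560 ∨ (g = 189000 ∧ r = -15 ∧ a % 7 = 0 ∧ b % 7 = 0 ∧ u % 7 = 0 ∧ (1 + r - u) % 7 = 0))

/-- The denominator in the first configuration. -/
def den1 (r a b : ℤ) : ℤ := r * a * b + a * b + 9 * (r * b) + 9 * (r * a)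

/-- The outer test of the first configuration. -/
def e1 (r a : ℤ) : Bool :=
  !(den1 r a (-1 - r - a) != 0 && 144000 * (r * a * (-1 - r - a)) % den1 r a (-1 - r - a) == 0 &&
    decide (Og (144000 * (r * a * (-1 - r - a)) / den1 r a (-1 - r - a)) ∧
      Sg (144000 * (r * a * (-1 - r - a)) / den1 r a (-1 - r - a)) 1 r ∧
      Sg (144000 * (r * a * (-1 - r - a)) / den1 r a (-1 - r - a)) 3 a ∧
      Sg (144000 * (r * a * (-1 - r - a)) / den1 r a (-1 - r - a)) 3 (-1 - r - a))) ||
  (List.range 251).all fun k : ℕ =>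
    e1in (144000 * (r * a * (-1 - r - a)) / den1 r a (-1 - r - a)) r a (-1 - r - a) (-1003 + 8 * (k : ℤ))

theorem e1_all_part0 : ((List.range 51).all fun t : ℕ => (List.range 251).all fun j : ℕ =>
      e1 (-999 + 8 * ((0 + t : ℕ) : ℤ)) (-997 + 8 * (j : ℤ))) = true := by
  decide +kernel

theorem e1_all_part1 : ((List.range 51).all fun t : ℕ => (List.range 251).all fun j : ℕ =>
      e1 (-999 + 8 * ((51 + t : ℕ) : ℤ)) (-997 + 8 * (j : ℤ))) = true := by
  decide +kernel

theorem e1_all_part2 : ((List.range 51).all fun t : ℕ => (List.range 251).all fun j : ℕ =>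
      e1 (-999 + 8 * ((102 + t : ℕ) : ℤ)) (-997 + 8 * (j : ℤ))) = true := by
  decide +kernel

theorem e1_all_part3 : ((List.range 51).all fun t : ℕ => (List.range 251).all fun j : ℕ =>
      e1 (-999 + 8 * ((153 + t : ℕ) : ℤ)) (-997 + 8 * (j : ℤ))) = true := by
  decide +kernel

theorem e1_all_part4 : ((List.range 47).all fun t : ℕ => (List.range 251).all fun j : ℕ =>
      e1 (-999 + 8 * ((204 + t : ℕ) : ℤ)) (-997 + 8 * (j : ℤ))) = true := by
  decide +kernel

theorem e1_all :
    ((List.range 251).all fun i : ℕ => (List.range 251).all fun j : ℕ =>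
      e1 (-999 + 8 * (i : ℤ)) (-997 + 8 * (j : ℤ))) = true := by
  refine List.all_eq_true.2 fun i hi => ?_
  rw [List.mem_range] at hi
  rcases Nat.lt_or_ge i 51 with h0 | h0
  · simpa [Nat.add_sub_cancel' (show 0 ≤ i by omega)] using
      List.all_eq_true.1 e1_all_part0 (i - 0) (List.mem_range.2 (by omega))
  rcases Nat.lt_or_ge i 102 with h1 | h1
  · simpa [Nat.add_sub_cancel' (show 51 ≤ i by omega)] using
      List.all_eq_true.1 e1_all_part1 (i - 51) (List.mem_range.2 (by omega))
  rcases Nat.lt_or_ge i 153 with h2 | h2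
  · simpa [Nat.add_sub_cancel' (show 102 ≤ i by omega)] using
      List.all_eq_true.1 e1_all_part2 (i - 102) (List.mem_range.2 (by omega))
  rcases Nat.lt_or_ge i 204 with h3 | h3
  · simpa [Nat.add_sub_cancel' (show 153 ≤ i by omega)] using
      List.all_eq_true.1 e1_all_part3 (i - 153) (List.mem_range.2 (by omega))
  simpa [Nat.add_sub_cancel' (show 204 ≤ i by omega)] using
    List.all_eq_true.1 e1_all_part4 (i - 204) (List.mem_range.2 (by omega))

/-- The inner test of the second configuration. -/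
def e2in (g r a c : ℤ) : Bool :=
  !decide (g * (-((1 + a + c) * a * c) - 4 * ((1 + a + c) * c) - 4 * ((1 + a + c) * a) + 25 * (a * c)) =
      -86400 * ((1 + a + c) * a * c) ∧ Sg g 5 (1 + a + c) ∧ Sg g (-2) c ∧ Sg g 3 (-1 - r - c))

/-- The denominator in the second configuration. -/
def den2 (r a b : ℤ) : ℤ := r * a * b + 36 * (a * b) + 4 * (r * b) + 9 * (r * a)

/-- The outer test of the second configuration. -/
def e2 (n : ℕ) (lo : ℤ) (r a : ℤ) : Bool :=
  !(den2 r a (-1 - r - a) != 0 && 144000 * (r * a * (-1 - r - a)) % den2 r a (-1 - r - a) == 0 &&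
    decide (Og (144000 * (r * a * (-1 - r - a)) / den2 r a (-1 - r - a)) ∧
      Sg (144000 * (r * a * (-1 - r - a)) / den2 r a (-1 - r - a)) 6 r ∧
      Sg (144000 * (r * a * (-1 - r - a)) / den2 r a (-1 - r - a)) (-2) a ∧
      Sg (144000 * (r * a * (-1 - r - a)) / den2 r a (-1 - r - a)) 3 (-1 - r - a))) ||
  (List.range n).all fun k : ℕ =>
    e2in (144000 * (r * a * (-1 - r - a)) / den2 r a (-1 - r - a)) r a (lo + 8 * (k : ℤ))

theorem e2_all_big_part0 : ((List.range 46).all fun t : ℕ => (List.range 230).all fun j : ℕ =>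
      e2 230 (-914) (-914 + 8 * ((0 + t : ℕ) : ℤ)) (-914 + 8 * (j : ℤ))) = true := by
  decide +kernel

theorem e2_all_big_part1 : ((List.range 46).all fun t : ℕ => (List.range 230).all fun j : ℕ =>
      e2 230 (-914) (-914 + 8 * ((46 + t : ℕ) : ℤ)) (-914 + 8 * (j : ℤ))) = true := by
  decide +kernel

theorem e2_all_big_part2 : ((List.range 46).all fun t : ℕ => (List.range 230).all fun j : ℕ =>
      e2 230 (-914) (-914 + 8 * ((92 + t : ℕ) : ℤ)) (-914 + 8 * (j : ℤ))) = true := by
  decide +kernel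

theorem e2_all_big_part3 : ((List.range 46).all fun t : ℕ => (List.range 230).all fun j : ℕ =>
      e2 230 (-914) (-914 + 8 * ((138 + t : ℕ) : ℤ)) (-914 + 8 * (j : ℤ))) = true := by
  decide +kernel

theorem e2_all_big_part4 : ((List.range 46).all fun t : ℕ => (List.range 230).all fun j : ℕ =>
      e2 230 (-914) (-914 + 8 * ((184 + t : ℕ) : ℤ)) (-914 + 8 * (j : ℤ))) = true := by
  decide +kernel

theorem e2_all_big :
    ((List.range 230).all fun i : ℕ => (List.range 230).all fun j : ℕ =>
      e2 230 (-914) (-914 + 8 * (i : ℤ)) (-914 + 8 * (j : ℤ))) = true := by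
  refine List.all_eq_true.2 fun i hi => ?_
  rw [List.mem_range] at hi
  rcases Nat.lt_or_ge i 46 with h0 | h0
  · simpa [Nat.add_sub_cancel' (show 0 ≤ i by omega)] using
      List.all_eq_true.1 e2_all_big_part0 (i - 0) (List.mem_range.2 (by omega))
  rcases Nat.lt_or_ge i 92 with h1 | h1
  · simpa [Nat.add_sub_cancel' (show 46 ≤ i by omega)] using
      List.all_eq_true.1 e2_all_big_part1 (i - 46) (List.mem_range.2 (by omega))
  rcases Nat.lt_or_ge i 138 with h2 | h2
  · simpa [Nat.add_sub_cancel' (show 92 ≤ i by omega)] using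
      List.all_eq_true.1 e2_all_big_part2 (i - 92) (List.mem_range.2 (by omega))
  rcases Nat.lt_or_ge i 184 with h3 | h3
  · simpa [Nat.add_sub_cancel' (show 138 ≤ i by omega)] using
      List.all_eq_true.1 e2_all_big_part3 (i - 138) (List.mem_range.2 (by omega))
  simpa [Nat.add_sub_cancel' (show 184 ≤ i by omega)] using
    List.all_eq_true.1 e2_all_big_part4 (i - 184) (List.mem_range.2 (by omega))

theorem e2_all_small :
    ((List.range 7).all fun i : ℕ => (List.range 416).all fun j : ℕ =>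
      e2 416 (-1658) (-90 + 8 * (i : ℤ)) (-1658 + 8 * (j : ℤ))) = true := by
  decide +kernel

end CfsgLib.Recog.J1Order
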