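import Cfsg.Agent.Lib.Recog.J1Order.Chars
import Cfsg.Agent.Lib.Recog.J1Order.Search

/-!
Owner: helper29. The order from the numerical data of the exceptional characters.
-/

set_option autoImplicit false
set_option maxRecDepth 100000

namespace CfsgLib.Recog.J1Order

/-- Lower bound for a reciprocal term. -/
theorem term_ge {k m x : ℚ} (hk : 0 ≤ k) (hm : 0 < m) (h : 0 < x ∨ x ≤ -m) : -(k / m) ≤ k / x := by
  have hkm : 0 ≤ k / m := div_nonneg hk hm.le
  rcases h with h | h
  · have : 0 ≤ k / x := div_nonneg hk h.le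
    linarith
  · have h1 : k / -x ≤ k / m := div_le_div_of_nonneg_left hk hm (by linarith)
    rw [div_neg] at h1
    linarith

/-- An upper bound for the order from a lower bound for the sum. -/
theorem bound_of_ge {L c : ℚ} {g : ℤ} (hg : 0 < g) (hc : 0 < c) (hL : L = 144000 / g) (h : c ≤ L) :
    (g : ℚ) ≤ 144000 / c := by
  have hg' : (0 : ℚ) < g := by exact_mod_cast hg
  rw [le_div_iff₀ hc]
  rw [hL, le_div_iff₀ hg'] at h
  linarith

theorem sq_bound {r g N M : ℤ} (h : r * r ≤ g) (hg : g ≤ N) (hNM : N < (M + 1) * (M + 1)) (hM : 0 ≤ M) :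
    -M ≤ r ∧ r ≤ M := by
  constructor <;> by_contra hh <;> nlinarith

/-- The first configuration. -/
theorem case1 {g r a b u w : ℤ} (hg : 0 < g) (ho : Og g) (hr : Sg g 1 r) (ha : Sg g 3 a) (hb : Sg g 3 b)
    (hu : Sg g 5 u) (hw : Sg g 5 w) (hd : 1 + r + a + b = 0) (hd' : u + w = 1 + r)
    (h1 : (1 : ℚ) + 1 / r + 9 / a + 9 / b = 144000 / g)
    (h3 : -(1 : ℚ) - 1 / r + 25 / u + 25 / w = -86400 / g) :
    g = 175560 ∨ (g = 189000 ∧ r = -15 ∧ a % 7 = 0 ∧ b % 7 = 0 ∧ u % 7 = 0 ∧ w % 7 = 0) := by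
  have hr0 : (r : ℚ) ≠ 0 := by exact_mod_cast hr.1
  have ha0 : (a : ℚ) ≠ 0 := by exact_mod_cast ha.1
  have hb0 : (b : ℚ) ≠ 0 := by exact_mod_cast hb.1
  have hu0 : (u : ℚ) ≠ 0 := by exact_mod_cast hu.1
  have hw0 : (w : ℚ) ≠ 0 := by exact_mod_cast hw.1
  have hg0 : (g : ℚ) ≠ 0 := by exact_mod_cast hg.ne'
  -- the bound
  have hbound : g ≤ 1008000 := by
    have hL : (1 : ℚ) / 7 ≤ 1 + 1 / r + 9 / a + 9 / b := by
      obtain ⟨-, -, -, -, hr'⟩ := hr
      obtain ⟨-, -, -, -, ha'⟩ := ha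
      obtain ⟨-, -, -, -, hb'⟩ := hb
      have t2 := term_ge (k := 9) (m := 21) (x := (a : ℚ)) (by norm_num) (by norm_num)
        (by rcases (show 0 < a ∨ a ≤ -21 by omega) with h | h
            · exact Or.inl (by exact_mod_cast h)
            · exact Or.inr (by exact_mod_cast h))
      have t3 := term_ge (k := 9) (m := 21) (x := (b : ℚ)) (by norm_num) (by norm_num)
        (by rcases (show 0 < b ∨ b ≤ -21 by omega) with h | h
            · exact Or.inl (by exact_mod_cast h)
            · exact Or.inr (by exact_mod_cast h))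
      rcases (show 0 < r ∨ r ≤ -7 by omega) with h | h
      · have : (0 : ℚ) ≤ 1 / r := div_nonneg (by norm_num) (by exact_mod_cast h.le)
        linarith
      · have t1 := term_ge (k := 1) (m := 7) (x := (r : ℚ)) (by norm_num) (by norm_num)
          (Or.inr (by exact_mod_cast h))
        rcases (show 0 < a ∨ 0 < b by omega) with h' | h'
        · have : (0 : ℚ) ≤ 9 / a := div_nonneg (by norm_num) (by exact_mod_cast h'.le)
          linarith
        · have : (0 : ℚ) ≤ 9 / b := div_nonneg (by norm_num) (by exact_mod_cast h'.le)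
          linarith
    have := bound_of_ge hg (by norm_num) h1 hL
    norm_num at this
    exact_mod_cast this
  have br := sq_bound hr.2.2.1 hbound (M := 1003) (by norm_num) (by norm_num)
  have ba := sq_bound ha.2.2.1 hbound (M := 1003) (by norm_num) (by norm_num)
  have bu := sq_bound hu.2.2.1 hbound (M := 1003) (by norm_num) (by norm_num)
  obtain ⟨i, hi, rfl⟩ : ∃ i : ℕ, i < 251 ∧ r = -999 + 8 * (i : ℤ) :=
    ⟨((r + 999) / 8).toNat, by have := hr.2.2.2.1; omega, by have := hr.2.2.2.1; omega⟩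
  obtain ⟨j, hj, rfl⟩ : ∃ j : ℕ, j < 251 ∧ a = -997 + 8 * (j : ℤ) :=
    ⟨((a + 997) / 8).toNat, by have := ha.2.2.2.1; omega, by have := ha.2.2.2.1; omega⟩
  obtain ⟨k, hk, rfl⟩ : ∃ k : ℕ, k < 251 ∧ u = -1003 + 8 * (k : ℤ) :=
    ⟨((u + 1003) / 8).toNat, by have := hu.2.2.2.1; omega, by have := hu.2.2.2.1; omega⟩
  have h := e1_all
  simp only [List.all_eq_true, List.mem_range] at h
  have h := h i hi j hj
  generalize hR : (-999 + 8 * (i : ℤ)) = R at *
  generalize hA : (-997 + 8 * (j : ℤ)) = A at *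
  generalize hU : (-1003 + 8 * (k : ℤ)) = U at *
  have hN : g * den1 R A b = 144000 * (R * A * b) := by
    have h' : ((g * den1 R A b : ℤ) : ℚ) = ((144000 * (R * A * b) : ℤ) : ℚ) := by
      simp only [den1]
      field_simp at h1
      push_cast
      linear_combination h1
    exact Int.cast_inj.1 h'
  have hE : g * (-(R * U * w) - U * w + 25 * (R * w) + 25 * (R * U)) = -86400 * (R * U * w) := by
    have h' : ((g * (-(R * U * w) - U * w + 25 * (R * w) + 25 * (R * U)) : ℤ) : ℚ) =
        ((-86400 * (R * U * w) : ℤ) : ℚ) := by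
      field_simp at h3
      push_cast
      linear_combination h3
    exact Int.cast_inj.1 h'
  obtain rfl : b = -1 - R - A := by omega
  obtain rfl : w = 1 + R - U := by omega
  have hD : den1 R A (-1 - R - A) ≠ 0 := by
    intro h0
    rw [h0, mul_zero] at hN
    exact (mul_ne_zero (by norm_num) (mul_ne_zero (mul_ne_zero hr.1 ha.1) hb.1)) hN.symm
  have hdiv : 144000 * (R * A * (-1 - R - A)) / den1 R A (-1 - R - A) = g := by
    rw [← hN, Int.mul_ediv_cancel _ hD]
  have hmod : 144000 * (R * A * (-1 - R - A)) % den1 R A (-1 - R - A) = 0 := by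
    rw [← hN, Int.mul_emod_left]
  unfold e1 at h
  rw [hdiv, hmod, decide_eq_true (⟨ho, hr, ha, hb⟩ : Og g ∧ Sg g 1 R ∧ Sg g 3 A ∧ Sg g 3 (-1 - R - A)),
    bne_iff_ne.2 hD, beq_self_eq_true, Bool.and_self, Bool.and_self, Bool.not_true, Bool.false_or,
    List.all_eq_true] at h
  have h := h k (List.mem_range.2 hk)
  rw [hU, e1in, decide_eq_true (show g * (-(R * U * (1 + R - U)) - U * (1 + R - U) + 25 * (R * (1 + R - U)) +
      25 * (R * U)) = -86400 * (R * U * (1 + R - U)) ∧ Sg g 5 U ∧ Sg g 5 (1 + R - U) from ⟨hE, hu, hw⟩),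
    Bool.not_true, Bool.false_or, decide_eq_true_eq] at h
  exact h

/-- The second configuration is impossible. -/
theorem case2 {g r a b c d w : ℤ} (hg : 0 < g) (ho : Og g) (hr : Sg g 6 r) (ha : Sg g (-2) a) (hb : Sg g 3 b)
    (hc : Sg g (-2) c) (hd : Sg g 3 d) (hw : Sg g 5 w)
    (e1' : 1 + r + a + b = 0) (e2' : 1 + r + c + d = 0) (e3' : w = 1 + a + c)
    (h1 : (1 : ℚ) + 36 / r + 4 / a + 9 / b = 144000 / g)
    (h2 : (1 : ℚ) + 36 / r + 4 / c + 9 / d = 144000 / g)
    (h3 : -(1 : ℚ) - 4 / a - 4 / c + 25 / w = -86400 / g) : False := by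
  have hr0 : (r : ℚ) ≠ 0 := by exact_mod_cast hr.1
  have ha0 : (a : ℚ) ≠ 0 := by exact_mod_cast ha.1
  have hb0 : (b : ℚ) ≠ 0 := by exact_mod_cast hb.1
  have hc0 : (c : ℚ) ≠ 0 := by exact_mod_cast hc.1
  have hd0 : (d : ℚ) ≠ 0 := by exact_mod_cast hd.1
  have hw0 : (w : ℚ) ≠ 0 := by exact_mod_cast hw.1
  have hg0 : (g : ℚ) ≠ 0 := by exact_mod_cast hg.ne'
  obtain ⟨-, -, -, hr8, hr'⟩ := id hr
  -- bounds in the two ranges
  have hbig : ∀ x y : ℤ, Sg g (-2) x → Sg g 3 y → 1 + r + x + y = 0 →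
      (1 : ℚ) + 36 / r + 4 / x + 9 / y = 144000 / g → (14 ≤ r ∨ r ≤ -98) → g ≤ 840000 := by
    intro x y hx hy hsum hxy hrr
    obtain ⟨-, -, -, -, hx'⟩ := hx
    obtain ⟨-, -, -, -, hy'⟩ := hy
    have t2 := term_ge (k := 4) (m := 10) (x := (x : ℚ)) (by norm_num) (by norm_num)
      (by rcases (show 0 < x ∨ x ≤ -10 by omega) with h | h
          · exact Or.inl (by exact_mod_cast h)
          · exact Or.inr (by exact_mod_cast h))
    have t3 := term_ge (k := 9) (m := 21) (x := (y : ℚ)) (by norm_num) (by norm_num)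
      (by rcases (show 0 < y ∨ y ≤ -21 by omega) with h | h
          · exact Or.inl (by exact_mod_cast h)
          · exact Or.inr (by exact_mod_cast h))
    have hL : (6 : ℚ) / 35 ≤ 1 + 36 / r + 4 / x + 9 / y := by
      rcases hrr with h | h
      · have : (0 : ℚ) ≤ 36 / r := div_nonneg (by norm_num) (by exact_mod_cast (show 0 ≤ r by omega))
        linarith
      · have t1 := term_ge (k := 36) (m := 98) (x := (r : ℚ)) (by norm_num) (by norm_num)
          (Or.inr (by exact_mod_cast h))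
        rcases (show 0 < x ∨ 0 < y by omega) with h' | h'
        · have : (0 : ℚ) ≤ 4 / x := div_nonneg (by norm_num) (by exact_mod_cast h'.le)
          linarith
        · have : (0 : ℚ) ≤ 9 / y := div_nonneg (by norm_num) (by exact_mod_cast h'.le)
          linarith
    have := bound_of_ge hg (by norm_num) hxy hL
    norm_num at this
    exact_mod_cast this
  have hsmall : ∀ x y : ℤ, Sg g (-2) x → Sg g 3 y → 1 + r + x + y = 0 →
      (1 : ℚ) + 36 / r + 4 / x + 9 / y = 144000 / g → (-90 ≤ r ∧ r ≤ -42) → -1654 ≤ x ∧ x ≤ 1654 := by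
    intro x y hx hy hsum hxy hrr
    have hxsq := hx.2.2.1
    obtain ⟨-, -, -, -, hx'⟩ := hx
    obtain ⟨-, -, -, -, hy'⟩ := hy
    have t1 := term_ge (k := 36) (m := 42) (x := (r : ℚ)) (by norm_num) (by norm_num)
      (Or.inr (by exact_mod_cast hrr.2))
    by_cases hsm : -190 ≤ x ∧ x ≤ 190
    · omega
    have hL : (1 : ℚ) / 19 ≤ 1 + 36 / r + 4 / x + 9 / y := by
      rcases (show 0 < x ∨ x ≤ -45 by omega) with h | h
      · have : (0 : ℚ) ≤ 4 / x := div_nonneg (by norm_num) (by exact_mod_cast h.le)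
        have t3 := term_ge (k := 9) (m := 101) (x := (y : ℚ)) (by norm_num) (by norm_num)
          (by rcases (show 0 < y ∨ y ≤ -101 by omega) with h' | h'
              · exact Or.inl (by exact_mod_cast h')
              · exact Or.inr (by exact_mod_cast h'))
        linarith
      · have : (0 : ℚ) ≤ 9 / y := div_nonneg (by norm_num) (by exact_mod_cast (show 0 ≤ y by omega))
        have t2 := term_ge (k := 4) (m := 45) (x := (x : ℚ)) (by norm_num) (by norm_num)
          (Or.inr (by exact_mod_cast h))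
        linarith
    have hb' := bound_of_ge hg (by norm_num) hxy hL
    norm_num at hb'
    exact sq_bound hxsq (N := 2736000) (by exact_mod_cast hb') (by norm_num) (by norm_num)
  have hN : g * den2 r a b = 144000 * (r * a * b) := by
    simp only [den2]
    field_simp at h1
    exact_mod_cast (by linear_combination h1 :
      (g : ℚ) * ((r : ℚ) * a * b + 36 * (a * b) + 4 * (r * b) + 9 * (r * a)) = 144000 * (r * a * b))
  have hD : den2 r a b ≠ 0 := by
    intro h0
    rw [h0, mul_zero] at hN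
    exact (mul_ne_zero (by norm_num) (mul_ne_zero (mul_ne_zero hr.1 ha.1) hb.1)) hN.symm
  have hdiv : 144000 * (r * a * b) / den2 r a b = g := by
    rw [← hN, Int.mul_ediv_cancel _ hD]
  have hmod : 144000 * (r * a * b) % den2 r a b = 0 := by
    rw [← hN, Int.mul_emod_left]
  have hE : g * (-(w * a * c) - 4 * (w * c) - 4 * (w * a) + 25 * (a * c)) = -86400 * (w * a * c) := by
    field_simp at h3
    exact_mod_cast (by linear_combination h3 :
      (g : ℚ) * (-((w : ℚ) * a * c) - 4 * (w * c) - 4 * (w * a) + 25 * (a * c)) = -86400 * (w * a * c))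
  obtain rfl : b = -1 - r - a := by omega
  obtain rfl : d = -1 - r - c := by omega
  subst e3'
  have hfin : ∀ n : ℕ, ∀ lo : ℤ, e2 n lo r a = true → (∃ k : ℕ, k < n ∧ c = lo + 8 * (k : ℤ)) → False := by
    rintro n lo h ⟨k, hk, hck⟩
    unfold e2 at h
    rw [hdiv, hmod, decide_eq_true (⟨ho, hr, ha, hb⟩ : Og g ∧ Sg g 6 r ∧ Sg g (-2) a ∧ Sg g 3 (-1 - r - a)),
      bne_iff_ne.2 hD, beq_self_eq_true, Bool.and_self, Bool.and_self, Bool.not_true, Bool.false_or,
      List.all_eq_true] at h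
    have h := h k (List.mem_range.2 hk)
    rw [← hck, e2in, decide_eq_true (show g * (-((1 + a + c) * a * c) - 4 * ((1 + a + c) * c) -
        4 * ((1 + a + c) * a) + 25 * (a * c)) = -86400 * ((1 + a + c) * a * c) ∧ Sg g 5 (1 + a + c) ∧
        Sg g (-2) c ∧ Sg g 3 (-1 - r - c) from ⟨hE, hw, hc, hd⟩)] at h
    exact Bool.noConfusion h
  rcases (show (14 ≤ r ∨ r ≤ -98) ∨ (-90 ≤ r ∧ r ≤ -42) by omega) with hrr | hrr
  · have hgb := hbig a _ ha hb e1' h1 hrr
    have br := sq_bound hr.2.2.1 hgb (M := 916) (by norm_num) (by norm_num)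
    have ba := sq_bound ha.2.2.1 hgb (M := 916) (by norm_num) (by norm_num)
    have bc := sq_bound hc.2.2.1 hgb (M := 916) (by norm_num) (by norm_num)
    have h := e2_all_big
    simp only [List.all_eq_true, List.mem_range] at h
    have ha8 := ha.2.2.2.1
    have hc8 := hc.2.2.2.1
    have h := h ((r + 914) / 8).toNat (by omega) ((a + 914) / 8).toNat (by omega)
    rw [show -914 + 8 * ((((r + 914) / 8).toNat : ℕ) : ℤ) = r by omega,
      show -914 + 8 * ((((a + 914) / 8).toNat : ℕ) : ℤ) = a by omega] at h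
    exact hfin _ _ h ⟨((c + 914) / 8).toNat, by omega, by omega⟩
  · have ba := hsmall a _ ha hb e1' h1 hrr
    have bc := hsmall c _ hc hd e2' h2 hrr
    have h := e2_all_small
    simp only [List.all_eq_true, List.mem_range] at h
    have ha8 := ha.2.2.2.1
    have hc8 := hc.2.2.2.1
    have h := h ((r + 90) / 8).toNat (by omega) ((a + 1658) / 8).toNat (by omega)
    rw [show -90 + 8 * ((((r + 90) / 8).toNat : ℕ) : ℤ) = r by omega,
      show -1658 + 8 * ((((a + 1658) / 8).toNat : ℕ) : ℤ) = a by omega] at h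
    exact hfin _ _ h ⟨((c + 1658) / 8).toNat, by omega, by omega⟩

end CfsgLib.Recog.J1Order
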