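import Cfsg.Agent.Lib.Recog.J1Order.Local
import Cfsg.Agent.Lib.Char.Exceptional.D8Centralizer

/-!
Owner: helper29. The exceptional characters attached to an involution with centraliser `Z₂ × A₅`.
-/

set_option autoImplicit false
set_option maxRecDepth 100000

open scoped ComplexConjugate
open CfsgLib.Char CfsgLib.Char.Exceptional CfsgLib.Char.Exceptional.D8Centralizer

namespace CfsgLib.Recog.J1Order

/-- The numerical data extracted from the exceptional characters. -/
structure NumData (ι : Type*) [Fintype ι] (g : ℕ) where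
  o : ι
  m : Idx → ι → ℤ
  d : ι → ℕ
  v : ι → ℤ
  gram_eq : ∀ i j, ∑ χ, m i χ * m j χ = gram i j
  triv : ∀ i, m i o = trv i
  d_o : d o = 1
  v_o : v o = 1
  deg : ∀ i, ∑ χ, m i χ * d χ = 0
  v_def : ∀ χ, v χ = 4 * m 0 χ + 3 * m 1 χ + 3 * m 2 χ + 5 * m 3 χ
  pair : ∀ i, ∑ χ, ((m i χ : ℚ) * (v χ : ℚ) ^ 2 / (d χ : ℚ)) = 120 * (psum i : ℚ) / g
  d_pos : ∀ χ, 0 < d χ
  d_dvd : ∀ χ, d χ ∣ g
  d_sq : ∀ χ, d χ * d χ ≤ g
  cong : ∀ χ, χ ≠ o → (8 : ℤ) ∣ (d χ : ℤ) - v χ ∧ v χ + 8 ≤ d χ ∧ 0 ≤ (d χ : ℤ) + 7 * v χ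
  g120 : 120 ∣ g
  g16 : ¬ 16 ∣ g

theorem eq_triv_of_value_eq {G : Type*} [Group G] [Fintype G] [IsSimpleGroup G]
    (χ : Cfsg.IrrCharacter G) {t : G} (ht : t ≠ 1) (h : (χ : G → ℂ) t = (χ : G → ℂ) 1) :
    χ = trivChar G := by
  obtain ⟨n, ρ, hρ, he⟩ := χ.2
  obtain ⟨b, ε, hb, hε⟩ := exists_eigenbasis ρ t
  have hnorm : ∀ i, ‖ε i‖ = 1 := fun i =>
    Complex.norm_eq_one_of_pow_eq_one (hε i) (orderOf_pos t).ne'
  have hsum : ρ.character t = ∑ i, ε i := by
    rw [Representation.character, LinearMap.trace_eq_matrix_trace ℂ b, Matrix.trace]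
    refine Finset.sum_congr rfl fun i _ => ?_
    simp [LinearMap.toMatrix_apply, hb]
  have h1 : ∀ i, ε i = 1 := by
    have h' : ρ.character t = ρ.character 1 := by rw [he]; exact h
    rw [hsum, Representation.char_one] at h'
    have hre : ∑ i, (ε i).re = ∑ _i : Fin (Module.finrank ℂ (Fin n → ℂ)), (1 : ℝ) := by
      have := congrArg Complex.re h'
      rw [Complex.re_sum] at this
      rw [this]
      simp
    have hle : ∀ i, (ε i).re ≤ 1 := fun i => (hnorm i) ▸ Complex.re_le_norm (ε i)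
    intro i
    have hr := (Finset.sum_eq_sum_iff_of_le fun j _ => hle j).1 hre i (Finset.mem_univ _)
    have him : (ε i).im = 0 := by
      have := Complex.sq_norm (ε i)
      rw [hnorm i, Complex.normSq_apply, hr] at this
      have h0 : (ε i).im * (ε i).im = 0 := by linarith
      exact mul_self_eq_zero.1 h0
    exact Complex.ext (by simpa using hr) (by simpa using him)
  have hker : t ∈ (MonoidHom.ker ρ) := by
    rw [MonoidHom.mem_ker]
    refine b.ext fun i => ?_
    show ρ t (b i) = _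
    rw [hb, h1, one_smul]
    rfl
  have hall : ∀ g : G, (χ : G → ℂ) g = (χ : G → ℂ) 1 := by
    intro g
    have htop : (MonoidHom.ker ρ) = ⊤ := (inferInstance : (MonoidHom.ker ρ).Normal).eq_bot_or_eq_top.resolve_left
      fun hbot => ht (by rw [hbot, Subgroup.mem_bot] at hker; exact hker)
    have h2 : ρ g = ρ 1 := by
      have : g ∈ (MonoidHom.ker ρ) := htop ▸ Subgroup.mem_top g
      rw [MonoidHom.mem_ker] at this
      rw [map_one]
      exact this
    rw [← he, Representation.character, Representation.character, h2]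
  classical
  by_contra hne
  have h0 := classInner_irr_of_ne hne
  obtain ⟨k, hk, hk'⟩ := IsIrr.exists_degree χ.2
  simp only [Cfsg.classInner, trivChar_apply, map_one, mul_one, hall, Finset.sum_const,
    Finset.card_univ, nsmul_eq_mul, hk', ← Nat.card_eq_fintype_card, ← mul_assoc] at h0
  rw [inv_mul_cancel₀ (Nat.cast_ne_zero.2 Nat.card_pos.ne'), one_mul] at h0
  exact hk.ne' (by exact_mod_cast h0)

open Subgroup in
theorem exists_data {G : Type*} [Group G] [Fintype G] [IsSimpleGroup G]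
    [Fintype (Cfsg.IrrCharacter G)] (t : G) (ht : orderOf t = 2)
    (htc : ∃ P : Sylow 2 G, t ∈ P ∧ ∀ x ∈ P, x * t = t * x)
    (e : centralizer ({t} : Set G) ≃* Mdl) :
    ∃ D : NumData (Cfsg.IrrCharacter G) (Nat.card G),
      (∀ χ : Cfsg.IrrCharacter G, (χ : G → ℂ) t = (D.v χ : ℂ)) ∧
      (∀ χ : Cfsg.IrrCharacter G, (χ : G → ℂ) 1 = (D.d χ : ℂ)) ∧
      D.o = trivChar G ∧
      ∀ x : G, (∀ y : G, (y⁻¹ * x * y) ^ 15 ≠ t) → ∀ i, ∑ χ, (D.m i χ : ℂ) * (χ : G → ℂ) x = 0 := by
  classical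
  obtain ⟨⟨P, hP8, hPH⟩, hinv, h120, h16⟩ := fusion t ht htc e
  obtain ⟨z, hz, hz1⟩ : ∃ z : ℂ, z ^ 5 = 1 ∧ z ≠ 1 := by
    have h := Complex.isPrimitiveRoot_exp 5 (by norm_num)
    exact ⟨_, h.pow_eq_one, h.ne_one (by norm_num)⟩
  obtain ⟨hφ2, hφc⟩ := root_facts z hz hz1
  set φ : ℂ := 1 + z + z ^ 4 with hφ
  set H := centralizer ({t} : Set G) with hH
  have het := e_apply_t t ht e
  let _ : Fintype H := Fintype.ofFinite H
  have hcardH : Nat.card H = 120 := (Nat.card_congr e.toEquiv).trans card_model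
  have hcardC : (Nat.card H : ℂ) = 120 := by rw [hcardH]; norm_num
  set S : Set G := {x | ∃ h : H, (h : G) = x ∧ (e h).1 ≠ 1 ∧ cls (e h).2 ≠ 1} with hS
  have h15 : ∀ x : Multiplicative (ZMod 2), x ≠ 1 → x ^ 15 = Multiplicative.ofAdd 1 := by decide
  have hpow : ∀ x ∈ S, x ^ 15 = t := by
    rintro _ ⟨h, rfl, h1, h2⟩
    have : e (h ^ 15) = e ⟨t, mem_centralizer_singleton_iff.2 rfl⟩ := by
      rw [map_pow, het]
      exact Prod.ext (h15 _ h1) ((cls_ne_one_iff _).1 h2)
    simpa using congrArg Subtype.val (e.injective this)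
  have hSH : S ⊆ H := by rintro _ ⟨h, rfl, -⟩; exact h.2
  have hSinv : ∀ s ∈ S, s⁻¹ ∈ S := by
    rintro _ ⟨h, rfl, h1, h2⟩
    exact ⟨h⁻¹, rfl, by rw [map_inv]; exact inv_ne_one.2 h1, by rw [map_inv]; exact (cls_inv _).symm ▸ h2⟩
  have hTI : ∀ g : G, g ∉ H → ∀ s ∈ S, g * s * g⁻¹ ∉ S := by
    intro g hg s hs hs'
    apply hg
    have h1 := hpow _ hs'
    rw [conj_pow, hpow s hs] at h1
    exact mem_centralizer_singleton_iff.2 (mul_inv_eq_iff_eq_mul.1 h1)
  let f : Idx → H → ℂ := fun i h => al φ i (e h)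
  have hgen : ∀ i, Cfsg.IsGeneralizedCharacter H (f i) := fun i =>
    IsGen.comp e.toMonoidHom (isGen_al z hz hz1 i)
  have hth1 : ∀ i : Idx, th i 1 = (0, 0) := by decide
  have hsupp : ∀ i, ∀ h : H, (h : G) ∉ S → f i h = 0 := by
    intro i h hh
    show al φ i (e h) = 0
    unfold al
    split_ifs with h1
    · rfl
    · by_cases h2 : cls (e h).2 = 1
      · rw [h2, hth1]; simp [pev]
      · exact absurd ⟨h, rfl, h1, h2⟩ hh
  have hcl : ∀ i, Cfsg.IsClassFunction H (f i) := fun i => IsGen.isClassFunction (hgen i)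
  choose m hm using fun i => IsGen.exists_sum (IsGen.indFun H (hgen i))
  choose d hd0 hd using fun χ : Cfsg.IrrCharacter G => IsIrr.exists_degree χ.2
  have hmi : ∀ i (χ : Cfsg.IrrCharacter G),
      Cfsg.classInner (Cfsg.indFun H (f i)) (χ : G → ℂ) = (m i χ : ℂ) := fun i χ => by
    rw [hm i, classInner_sum_irr]
  have hdot : ∀ a b : Cfsg.IrrCharacter G → ℤ,
      Cfsg.classInner (∑ χ, (a χ : ℂ) • (χ : G → ℂ)) (∑ χ, (b χ : ℂ) • (χ : G → ℂ)) =
        ((∑ χ, a χ * b χ : ℤ) : ℂ) := fun a b => by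
    rw [classInner_sum_right]
    simp only [classInner_smul_right, classInner_sum_irr, map_intCast, Int.cast_sum, Int.cast_mul]
    exact Finset.sum_congr rfl fun χ _ => mul_comm _ _
  have hgram : ∀ i j, ∑ χ, m i χ * m j χ = gram i j := by
    intro i j
    have h := hdot (m i) (m j)
    rw [← hm i, ← hm j, ti_indFun_inner hTI (hsupp i) (hcl j) (hsupp j), Cfsg.classInner, hcardC,
      show ∑ h : H, f i h * conj (f j h) = ∑ x : Mdl, al φ i x * conj (al φ j x) from
        sum_pullback e (fun x => al φ i x * conj (al φ j x)), sum_al_mul hφ2 hφc,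
      ← mul_assoc, inv_mul_cancel₀ (by norm_num : (120 : ℂ) ≠ 0), one_mul] at h
    exact_mod_cast h.symm
  have htriv : ∀ i, m i (trivChar G) = trv i := by
    intro i
    have h := hmi i (trivChar G)
    rw [frobenius_reciprocity H (f i) (IsIrr.isClassFunction (trivChar G).2), Cfsg.classInner, hcardC] at h
    simp only [trivChar_apply, map_one, mul_one] at h
    rw [show ∑ h : H, f i h = ∑ x : Mdl, al φ i x from sum_pullback e (al φ i), sum_al,
      ← mul_assoc, inv_mul_cancel₀ (by norm_num : (120 : ℂ) ≠ 0), one_mul] at h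
    exact_mod_cast h.symm
  have hev : ∀ i g, Cfsg.indFun H (f i) g = ∑ χ, (m i χ : ℂ) * (χ : G → ℂ) g := fun i g => by
    rw [hm i, Finset.sum_apply]
    simp only [Pi.smul_apply, smul_eq_mul]
  have hdeg : ∀ i, ∑ χ, m i χ * (d χ : ℤ) = 0 := by
    intro i
    have h := hev i 1
    rw [indFun_apply_one] at h
    simp only [hd] at h
    have h0 : f i 1 = 0 := by simp [f, al]
    rw [h0, mul_zero] at h
    exact_mod_cast h.symm
  set v : Cfsg.IrrCharacter G → ℤ := fun χ => 4 * m 0 χ + 3 * m 1 χ + 3 * m 2 χ + 5 * m 3 χ with hv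
  have hvt : ∀ χ : Cfsg.IrrCharacter G, (χ : G → ℂ) t = (v χ : ℂ) := by
    intro χ
    have hr : ∀ i, (m i χ : ℂ) = (120 : ℂ)⁻¹ * ∑ h : H, f i h * conj ((χ : G → ℂ) h) := fun i => by
      rw [← hmi, frobenius_reciprocity H (f i) (IsIrr.isClassFunction χ.2), Cfsg.classInner, hcardC]
    have key : ((v χ : ℤ) : ℂ) = conj ((χ : G → ℂ) t) := by
      simp only [hv, Int.cast_add, Int.cast_mul, Int.cast_ofNat, hr, Finset.mul_sum, ← Finset.sum_add_distrib]
      rw [Finset.sum_eq_single (⟨t, mem_centralizer_singleton_iff.2 rfl⟩ : H)]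
      · have hc := al_comb (φ := φ) (e ⟨t, mem_centralizer_singleton_iff.2 rfl⟩)
        rw [if_pos het] at hc
        linear_combination ((120 : ℂ)⁻¹ * conj ((χ : G → ℂ) t)) * hc
      · intro h _ hne
        have hc := al_comb (φ := φ) (e h)
        rw [if_neg (fun he => hne (e.injective (he.trans het.symm)))] at hc
        linear_combination ((120 : ℂ)⁻¹ * conj ((χ : G → ℂ) h)) * hc
      · exact fun h => absurd (Finset.mem_univ _) h
    rw [← Complex.conj_conj ((χ : G → ℂ) t), ← key, map_intCast]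
  set cl := CharIntegral.classFinset t with hcl'
  set K := H.index with hK
  have hK0 : (K : ℂ) ≠ 0 := Nat.cast_ne_zero.2 Subgroup.index_ne_zero_of_finite
  have hg : (Nat.card G : ℂ) = 120 * K := by rw [hK, ← hcardC, ← Nat.cast_mul, H.card_mul_index]
  have horder : ∀ x : H, orderOf (x : G) = 2 ↔ e x ∈ invs := fun x => by
    simp only [invs, Finset.mem_filter, Finset.mem_univ, true_and]
    rw [← map_mul, Ne, EmbeddingLike.map_eq_one_iff, EmbeddingLike.map_eq_one_iff, orderOf_eq_prime_iff,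
      pow_two, ← Subgroup.coe_mul, OneMemClass.coe_eq_one, Ne, OneMemClass.coe_eq_one]
  have hpair : ∀ i, ∑ χ, ((m i χ : ℚ) * (v χ : ℚ) ^ 2 / (d χ : ℚ)) = 120 * (psum i : ℚ) / Nat.card G := by
    intro i
    have hfin := ti_involution_pair_sum hTI hSH hSinv (hsupp i) (u := t) (v := t) ht ht
    rw [finsum_mem_eq_toFinset_sum, finsum_mem_eq_toFinset_sum] at hfin
    have hP : {p : G × G | IsConj t p.1 ∧ IsConj t p.2}.toFinset = cl ×ˢ cl := by
      ext p
      rw [Set.mem_toFinset, Finset.mem_product, hcl', CharIntegral.mem_classFinset, CharIntegral.mem_classFinset]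
      rfl
    have hR : ∀ x : H, IsConj t (x : G) ↔ e x ∈ invs := fun x => by
      rw [← horder]
      refine ⟨fun h => ?_, hinv _⟩
      obtain ⟨g, hg⟩ := isConj_iff.1 h
      rw [← hg, orderOf_conj', ht]
    have hQ : {p : H × H | IsConj t (p.1 : G) ∧ IsConj t (p.2 : G)}.toFinset =
        Finset.univ.filter fun p : H × H => e p.1 ∈ invs ∧ e p.2 ∈ invs := by
      ext p
      rw [Set.mem_toFinset, Finset.mem_filter, ← hR, ← hR]
      simp
    rw [hP, hQ] at hfin
    have hright : ∑ p ∈ Finset.univ.filter (fun p : H × H => e p.1 ∈ invs ∧ e p.2 ∈ invs),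
        f i (p.1 * p.2) = (psum i : ℂ) := by
      rw [← sum_pairs (φ := φ) i]
      refine Finset.sum_nbij' (fun p => (e p.1, e p.2)) (fun p => (e.symm p.1, e.symm p.2))
        ?_ ?_ ?_ ?_ ?_
      · intro p hp
        simpa using hp
      · intro p hp
        simpa using hp
      · intro p _; simp
      · intro p _; simp
      · intro p _; simp [f]
    rw [hright, Finset.sum_product] at hfin
    simp only [hev] at hfin
    have hswap : ∑ x ∈ cl, ∑ y ∈ cl, ∑ χ, (m i χ : ℂ) * (χ : G → ℂ) (x * y) =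
        (K : ℂ) ^ 2 * ∑ χ, (m i χ : ℂ) * ((v χ : ℂ) ^ 2 / d χ) := by
      rw [Finset.sum_congr rfl (fun x _ => Finset.sum_comm), Finset.sum_comm, Finset.mul_sum]
      refine Finset.sum_congr rfl fun χ _ => ?_
      simp only [← Finset.mul_sum]
      rw [class_pair_sum χ (hd χ) t, hvt, ← hH, ← hK]
      ring
    rw [hswap, sq, mul_assoc] at hfin
    have h' := mul_left_cancel₀ hK0 hfin
    have hgoal : ((∑ χ, ((m i χ : ℚ) * (v χ : ℚ) ^ 2 / (d χ : ℚ)) : ℚ) : ℂ) =
        ((120 * (psum i : ℚ) / Nat.card G : ℚ) : ℂ) := by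
      push_cast
      rw [hg, eq_div_iff (mul_ne_zero (by norm_num) hK0)]
      simp only [mul_div_assoc]
      linear_combination (120 : ℂ) * h'
    exact_mod_cast hgoal
  have hdvd : ∀ χ, d χ ∣ Nat.card G := by
    intro χ
    obtain ⟨n, ρ, hρ, he⟩ := χ.2
    have h1 := hd χ
    rw [← he, Representation.char_one] at h1
    have h2 : Module.finrank ℂ (Fin n → ℂ) = d χ := by exact_mod_cast h1
    exact h2 ▸ CharIntegral.finrank_dvd_card ρ
  have hsq : ∀ χ, d χ * d χ ≤ Nat.card G := by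
    intro χ
    have h := column_orthogonality (1 : G) 1
    rw [if_pos (IsConj.refl _)] at h
    simp only [hd, map_natCast] at h
    have hc1 : Nat.card (centralizer ({(1 : G)} : Set G)) ≤ Nat.card G :=
      Nat.le_of_dvd Nat.card_pos (card_subgroup_dvd_card _)
    have h2 : ∑ ψ, d ψ * d ψ = Nat.card (centralizer ({(1 : G)} : Set G)) := by exact_mod_cast h
    exact le_trans (le_trans (Finset.single_le_sum (f := fun ψ => d ψ * d ψ) (fun ψ _ => Nat.zero_le _)
      (Finset.mem_univ χ)) h2.le) hc1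
  have hcong : ∀ χ, χ ≠ trivChar G → (8 : ℤ) ∣ (d χ : ℤ) - v χ ∧ v χ + 8 ≤ d χ ∧
      0 ≤ (d χ : ℤ) + 7 * v χ := by
    intro χ hχ
    let _ : Fintype (P : Subgroup G) := Fintype.ofFinite _
    obtain ⟨k, hk⟩ := IsChar.classInner_eq_natCast (IsChar.restrict (P : Subgroup G) (IsIrr.isCharacter χ.2))
      (isCharacter_one (G := (P : Subgroup G)))
    rw [Cfsg.classInner, show Nat.card (P : Subgroup G) = 8 from hP8] at hk
    simp only [map_one, mul_one] at hk
    have hval : ∀ x : (P : Subgroup G), x ≠ 1 → (χ : G → ℂ) x = (v χ : ℂ) := by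
      intro x hx
      have hx2 : orderOf (x : G) = 2 := by
        rw [orderOf_eq_prime_iff]
        refine ⟨?_, fun h => hx (Subtype.ext h)⟩
        have h8 : e ⟨x, hPH x.2⟩ ^ 8 = 1 := by
          rw [← map_pow, ← map_one e]
          refine congrArg e (Subtype.ext ?_)
          have h := pow_card_eq_one' (G := (P : Subgroup G)) (x := x)
          rw [show Nat.card (P : Subgroup G) = 8 from hP8] at h
          simpa using congrArg Subtype.val h
        have h2 := (model_two_element _).2 h8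
        rw [← map_mul, ← map_one e] at h2
        rw [pow_two]
        exact congrArg Subtype.val (e.injective h2)
      obtain ⟨g, hg⟩ := isConj_iff.1 (hinv _ hx2)
      rw [← hg, IsIrr.isClassFunction χ.2 t g, hvt]
    rw [← Finset.add_sum_erase _ _ (Finset.mem_univ (1 : (P : Subgroup G))),
      Finset.sum_congr rfl (g := fun _ => (v χ : ℂ)) (fun x hx => hval x (Finset.ne_of_mem_erase hx)),
      Finset.sum_const, Finset.card_erase_of_mem (Finset.mem_univ _), Finset.card_univ,
      ← Nat.card_eq_fintype_card, show Nat.card (P : Subgroup G) = 8 from hP8, OneMemClass.coe_one, hd] at hk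
    have hk' : (d χ : ℤ) + 7 * v χ = 8 * k := by
      have hk2 : ((d χ : ℤ) + 7 * v χ : ℂ) = ((8 * k : ℤ) : ℂ) := by
        rw [show (8 - 1 : ℕ) = 7 from rfl, nsmul_eq_mul, Nat.cast_ofNat] at hk
        push_cast
        linear_combination (8 : ℂ) * hk
      exact_mod_cast hk2
    have hle : v χ ≤ d χ := by
      have hn := IsChar.norm_le (IsIrr.isCharacter χ.2) t
      rw [hvt, hd, Complex.norm_intCast, Complex.norm_natCast] at hn
      have : ((v χ : ℤ) : ℝ) ≤ ((d χ : ℤ) : ℝ) := le_trans (le_abs_self _) (by simpa using hn)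
      exact_mod_cast this
    have hne : v χ ≠ d χ := fun h => hχ (eq_triv_of_value_eq (t := t) χ (fun h1 => by simp [h1] at ht)
      (by rw [hvt, hd, h]; simp))
    refine ⟨⟨(k : ℤ) - v χ, by omega⟩, by omega, by omega⟩
  refine ⟨⟨trivChar G, m, d, v, hgram, htriv, ?_, ?_, hdeg, fun _ => rfl, hpair, hd0, hdvd, hsq, hcong,
    h120, h16⟩, hvt, hd, rfl, fun x hx i => ?_⟩
  · have h := hd (trivChar G)
    rw [trivChar_apply] at h
    exact_mod_cast h.symm
  · have h := hvt (trivChar G)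
    rw [trivChar_apply] at h
    exact_mod_cast h.symm
  · rw [← hev, indFun_eq_zero_of_support (hsupp i) fun y hy => hx y (hpow _ hy)]

end CfsgLib.Recog.J1Order
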