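import Cfsg.Agent.Lib.Recog.J1Order.Arith

/-!
Owner: helper29. The configurations of the exceptional characters.
-/

set_option autoImplicit false
set_option maxRecDepth 100000

namespace CfsgLib.Recog.J1Order

variable {ι : Type*} [Fintype ι]

theorem abs_le_one_of_sq_sum {s : Finset ι} {f : ι → ℤ} {n : ℤ} (h : ∑ x ∈ s, f x * f x = n) (hn : n < 4)
    {x : ι} (hx : x ∈ s) : f x = 0 ∨ f x = 1 ∨ f x = -1 := by
  have h1 := Finset.single_le_sum (f := fun x => f x * f x) (fun y _ => mul_self_nonneg (f y)) hx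
  simp only [h] at h1
  have h2 : -1 ≤ f x := by by_contra; nlinarith
  have h3 : f x ≤ 1 := by by_contra; nlinarith
  omega

theorem card_support {s : Finset ι} {f : ι → ℤ} {n : ℤ} (h : ∑ x ∈ s, f x * f x = n) (hn : n < 4) :
    ((s.filter fun x => f x ≠ 0).card : ℤ) = n := by
  classical
  rw [← h, ← Finset.sum_filter_ne_zero (f := fun x => f x * f x)]
  rw [show (s.filter fun x => f x * f x ≠ 0) = s.filter fun x => f x ≠ 0 from
    Finset.filter_congr fun x _ => by simp]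
  rw [Finset.sum_congr rfl (g := fun _ => (1 : ℤ)) fun x hx => by
    obtain ⟨hx, h0⟩ := Finset.mem_filter.1 hx
    rcases abs_le_one_of_sq_sum h hn hx with h' | h' | h'
    · exact absurd h' h0
    · rw [h']; rfl
    · rw [h']; rfl]
  simp

/-- The common point of two signed three-element supports. -/
theorem cross {s : Finset ι} {f h : ι → ℤ} {d : ι → ℕ} (hd : ∀ x, 0 < d x)
    (hf : ∑ x ∈ s, f x * f x = 3) (hh : ∑ x ∈ s, h x * h x = 3) (hfh : ∑ x ∈ s, f x * h x = 1)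
    (hdeg : ∑ x ∈ s, f x * (d x : ℤ) = ∑ x ∈ s, h x * (d x : ℤ)) :
    ∃ x ∈ s, f x ≠ 0 ∧ f x = h x ∧ ∀ y ∈ s, f y ≠ 0 → h y ≠ 0 → y = x := by
  classical
  have hprod : ∀ y ∈ s, f y * h y = 0 ∨ f y * h y = 1 := by
    intro y hy
    rcases abs_le_one_of_sq_sum hf (by norm_num) hy with h1 | h1 | h1 <;>
      rcases abs_le_one_of_sq_sum hh (by norm_num) hy with h2 | h2 | h2 <;> simp [h1, h2]
    all_goals
      have hsq : ∑ x ∈ s, (f x - h x) * (f x - h x) = 4 := by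
        calc ∑ x ∈ s, (f x - h x) * (f x - h x)
            = ∑ x ∈ s, (f x * f x + h x * h x - 2 * (f x * h x)) :=
              Finset.sum_congr rfl fun x _ => by ring
          _ = 4 := by
              rw [Finset.sum_sub_distrib, Finset.sum_add_distrib, ← Finset.mul_sum, hf, hh, hfh]
              norm_num
      rw [← Finset.add_sum_erase _ _ hy, h1, h2] at hsq
      have hz : ∑ x ∈ s.erase y, (f x - h x) * (f x - h x) = 0 := by linarith
      have hz' : ∑ x ∈ s.erase y, (f x - h x) * (d x : ℤ) = 0 :=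
        Finset.sum_eq_zero fun x hx => by
          rw [mul_self_eq_zero.1 ((Finset.sum_eq_zero_iff_of_nonneg fun x _ => mul_self_nonneg _).1 hz x hx),
            zero_mul]
      have h0 : ∑ x ∈ s, (f x - h x) * (d x : ℤ) = 0 := by
        simp only [sub_mul, Finset.sum_sub_distrib, hdeg, sub_self]
      rw [← Finset.add_sum_erase _ _ hy, hz', h1, h2] at h0
      have := hd y
      omega
  have hc : ((s.filter fun x => f x * h x ≠ 0).card : ℤ) = 1 := by
    rw [← hfh, ← Finset.sum_filter_ne_zero (f := fun x => f x * h x)]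
    rw [Finset.sum_congr rfl (g := fun _ => (1 : ℤ)) fun x hx => by
      obtain ⟨hx, h0⟩ := Finset.mem_filter.1 hx
      exact (hprod x hx).resolve_left h0]
    simp
  obtain ⟨x, hx⟩ := Finset.card_eq_one.1 (by exact_mod_cast hc)
  have hm : x ∈ s.filter fun x => f x * h x ≠ 0 := by rw [hx]; exact Finset.mem_singleton_self x
  obtain ⟨hxs, hx0⟩ := Finset.mem_filter.1 hm
  refine ⟨x, hxs, fun h0 => hx0 (by rw [h0, zero_mul]), ?_, fun y hy h1 h2 => ?_⟩
  · have := (hprod x hxs).resolve_left hx0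
    rcases Int.eq_one_or_neg_one_of_mul_eq_one this with h1 | h1 <;> rw [h1] at this <;> omega
  · have : y ∈ s.filter fun x => f x * h x ≠ 0 := Finset.mem_filter.2 ⟨hy, mul_ne_zero h1 h2⟩
    rw [hx] at this
    exact Finset.mem_singleton.1 this

/-- The remaining points of a three-element support. -/
theorem complete_two {s : Finset ι} {f : ι → ℤ} (hf : ∑ x ∈ s, f x * f x = 3) {x y : ι} (hx : x ∈ s)
    (hy : y ∈ s) (hxy : x ≠ y) (hfx : f x ≠ 0) (hfy : f y ≠ 0) :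
    ∃ z ∈ s, f z ≠ 0 ∧ z ≠ x ∧ z ≠ y ∧ (∀ w ∈ s, f w ≠ 0 → w = x ∨ w = y ∨ w = z) ∧
      ∀ {M : Type} [AddCommMonoid M] (F : ι → M), (∀ w ∈ s, f w = 0 → F w = 0) →
        ∑ w ∈ s, F w = F x + F y + F z := by
  classical
  have hc : (s.filter fun w => f w ≠ 0).card = 3 := by exact_mod_cast card_support hf (by norm_num)
  have hsub : {x, y} ⊆ s.filter fun w => f w ≠ 0 := by
    intro w hw
    rcases Finset.mem_insert.1 hw with rfl | hw
    · exact Finset.mem_filter.2 ⟨hx, hfx⟩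
    · obtain rfl := Finset.mem_singleton.1 hw
      exact Finset.mem_filter.2 ⟨hy, hfy⟩
  obtain ⟨z, hz⟩ := Finset.card_eq_one.1
    (show ((s.filter fun w => f w ≠ 0) \ {x, y}).card = 1 by
      rw [Finset.card_sdiff_of_subset hsub, hc, Finset.card_pair hxy])
  have hzm : z ∈ (s.filter fun w => f w ≠ 0) \ {x, y} := by rw [hz]; exact Finset.mem_singleton_self z
  simp only [Finset.mem_sdiff, Finset.mem_filter, Finset.mem_insert, Finset.mem_singleton, not_or] at hzm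
  have hcov : ∀ w ∈ s, f w ≠ 0 → w = x ∨ w = y ∨ w = z := by
    intro w hw h0
    by_cases h : w = x ∨ w = y
    · tauto
    · have : w ∈ (s.filter fun w => f w ≠ 0) \ {x, y} := by
        simp only [Finset.mem_sdiff, Finset.mem_filter, Finset.mem_insert, Finset.mem_singleton]
        exact ⟨⟨hw, h0⟩, h⟩
      rw [hz] at this
      exact Or.inr (Or.inr (Finset.mem_singleton.1 this))
  refine ⟨z, hzm.1.1, hzm.1.2, hzm.2.1, hzm.2.2, hcov, ?_⟩
  intro M _ F hF
  rw [← Finset.sum_subset (s₁ := {x, y, z}) ?_ ?_]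
  · rw [Finset.sum_insert (by simp [hxy, Ne.symm hzm.2.1]), Finset.sum_pair (Ne.symm hzm.2.2), add_assoc]
  · intro w hw
    simp only [Finset.mem_insert, Finset.mem_singleton] at hw
    rcases hw with rfl | rfl | rfl
    exacts [hx, hy, hzm.1.1]
  · intro w hw hn
    simp only [Finset.mem_insert, Finset.mem_singleton] at hn
    refine hF w hw ?_
    by_contra h0
    exact hn (hcov w hw h0)

theorem complete_one {s : Finset ι} {f : ι → ℤ} (hf : ∑ x ∈ s, f x * f x = 3) {x : ι} (hfx : f x ≠ 0) :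
    ∃ y ∈ s, f y ≠ 0 ∧ y ≠ x := by
  classical
  have hc : (s.filter fun w => f w ≠ 0).card = 3 := by exact_mod_cast card_support hf (by norm_num)
  by_contra h
  push Not at h
  have : (s.filter fun w => f w ≠ 0) ⊆ {x} := fun w hw =>
    Finset.mem_singleton.2 (h w (Finset.mem_filter.1 hw).1 (Finset.mem_filter.1 hw).2)
  have := Finset.card_le_card this
  rw [hc, Finset.card_singleton] at this
  omega

variable {g : ℕ}

theorem NumData.g_pos (D : NumData ι g) : 0 < g := by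
  have := D.d_sq D.o
  rw [D.d_o] at this
  omega

theorem NumData.og (D : NumData ι g) : Og (g : ℤ) := by
  obtain ⟨k, hk⟩ := D.g120
  have := D.g16
  constructor <;> omega

/-- The signed degree conditions. -/
theorem NumData.signed (D : NumData ι g) {χ : ι} (hχ : χ ≠ D.o) {ε k : ℤ} (hε : ε = 1 ∨ ε = -1) (hv : D.v χ = ε * k) :
    Sg g k (ε * (D.d χ : ℤ)) := by
  obtain ⟨h1, h2, h3⟩ := D.cong χ hχ
  have hpos := D.d_pos χ
  have hsq : ((D.d χ : ℤ)) * (D.d χ : ℤ) ≤ (g : ℤ) := by exact_mod_cast D.d_sq χ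
  have hdvd : (D.d χ : ℤ) ∣ (g : ℤ) := by exact_mod_cast D.d_dvd χ
  have hm : (g : ℤ) % (D.d χ : ℤ) = 0 := Int.emod_eq_zero_of_dvd hdvd
  rcases hε with rfl | rfl
  · rw [one_mul] at hv ⊢
    exact ⟨by omega, hm, hsq, by omega, Or.inl (by omega)⟩
  · refine ⟨by omega, ?_, by linarith, by omega, Or.inr (by omega)⟩
    rw [neg_one_mul, Int.emod_neg]
    exact hm

theorem seven_dvd {n : ℕ} {ε : ℤ} (hε : ε = 1 ∨ ε = -1) (h : ε * (n : ℤ) % 7 = 0) : 7 ∣ n := by
  rcases hε with rfl | rfl <;> omega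

theorem term_signed {ε : ℤ} (hε : ε = 1 ∨ ε = -1) (X n : ℚ) : (ε : ℚ) * X / n = X / ((ε : ℚ) * n) := by
  rcases hε with rfl | rfl
  · simp
  · push_cast
    rw [neg_one_mul, neg_one_mul, neg_div, div_neg]

set_option maxHeartbeats 2000000 in
/-- The outcome of the search over the configurations. -/
theorem NumData.result (D : NumData ι g) :
    g = 175560 ∨ (g = 189000 ∧ ∃ X a b, X ≠ D.o ∧ a ≠ b ∧ a ≠ D.o ∧ b ≠ D.o ∧
      D.v X = -1 ∧ D.d X = 15 ∧ D.m 1 X = -1 ∧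
      D.d a = D.d b ∧ D.v a = 4 ∧ D.v b = -4 ∧ D.m 0 a = 1 ∧ D.m 0 b = -1 ∧
      (∀ χ, χ ≠ a → χ ≠ b → D.m 0 χ = 0) ∧ D.m 1 a = 0 ∧ D.m 1 b = 0 ∧
      (∀ χ, χ ≠ D.o → χ ≠ X → D.m 1 χ = 0 ∨ 7 ∣ D.d χ) ∧
      (∀ χ, χ ≠ D.o → χ ≠ X → χ ≠ a → χ ≠ b → D.v χ = 0 ∨ 7 ∣ D.d χ)) := by
  classical
  have hgpos : 0 < (g : ℤ) := by exact_mod_cast D.g_pos
  set s := (Finset.univ : Finset ι).erase D.o with hs
  have hmem : ∀ {χ}, χ ∈ s ↔ χ ≠ D.o := by simp [hs]
  have hsum : ∀ {M : Type} [AddCommGroup M] (F : ι → M), ∑ χ, F χ = F D.o + ∑ χ ∈ s, F χ := fun F =>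
    (Finset.add_sum_erase _ _ (Finset.mem_univ _)).symm
  have hG : ∀ i j, ∑ χ ∈ s, D.m i χ * D.m j χ = gram i j - trv i * trv j := fun i j => by
    rw [← D.gram_eq i j, hsum, D.triv, D.triv]; ring
  have hDg : ∀ i, ∑ χ ∈ s, D.m i χ * (D.d χ : ℤ) = -trv i := fun i => by
    have := D.deg i
    rw [hsum, D.triv, D.d_o] at this
    push_cast at this
    linarith
  -- row zero
  have h00 : ∑ χ ∈ s, D.m 0 χ * D.m 0 χ = 2 := hG 0 0
  obtain ⟨p, q, hpq, hsupp⟩ := Finset.card_eq_two.1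
    (show (s.filter fun χ => D.m 0 χ ≠ 0).card = 2 by exact_mod_cast card_support h00 (by norm_num))
  have hp : p ∈ s ∧ D.m 0 p ≠ 0 := Finset.mem_filter.1 ((Finset.ext_iff.1 hsupp p).2 (by simp))
  have hq : q ∈ s ∧ D.m 0 q ≠ 0 := Finset.mem_filter.1 ((Finset.ext_iff.1 hsupp q).2 (by simp))
  have hrow0 : ∀ χ, χ ≠ p → χ ≠ q → D.m 0 χ = 0 := by
    intro χ h1 h2
    by_cases ho : χ = D.o
    · rw [ho, D.triv]; rfl
    by_contra h0
    have : χ ∈ s.filter fun χ => D.m 0 χ ≠ 0 := Finset.mem_filter.2 ⟨hmem.2 ho, h0⟩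
    rw [hsupp] at this
    simp [h1, h2] at this
  have hsum0 : ∀ {M : Type} [AddCommMonoid M] (F : ι → M), (∀ χ, D.m 0 χ = 0 → F χ = 0) →
      ∑ χ, F χ = F p + F q := by
    intro M _ F hF
    rw [← Finset.sum_subset (Finset.subset_univ {p, q}) fun χ _ hn => hF χ ?_, Finset.sum_pair hpq]
    simp only [Finset.mem_insert, Finset.mem_singleton, not_or] at hn
    exact hrow0 χ hn.1 hn.2
  have hd0 := D.deg 0
  rw [hsum0 _ (fun χ h => by simp [h])] at hd0
  obtain ⟨a, b, hab, ha, hb, ha1, hb1, hrow, hdab⟩ : ∃ a b, a ≠ b ∧ a ≠ D.o ∧ b ≠ D.o ∧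
      D.m 0 a = 1 ∧ D.m 0 b = -1 ∧ (∀ χ, χ ≠ a → χ ≠ b → D.m 0 χ = 0) ∧ D.d a = D.d b := by
    have hdp := D.d_pos p
    have hdq := D.d_pos q
    rcases abs_le_one_of_sq_sum h00 (by norm_num) hp.1 with e1 | e1 | e1 <;>
      rcases abs_le_one_of_sq_sum h00 (by norm_num) hq.1 with e2 | e2 | e2
    all_goals first
      | exact absurd e1 hp.2
      | exact absurd e2 hq.2
      | (rw [e1, e2] at hd0; omega)
      | exact ⟨p, q, hpq, hmem.1 hp.1, hmem.1 hq.1, e1, e2, hrow0, by rw [e1, e2] at hd0; omega⟩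
      | exact ⟨q, p, hpq.symm, hmem.1 hq.1, hmem.1 hp.1, e2, e1, fun χ x y => hrow0 χ y x,
          by rw [e1, e2] at hd0; omega⟩
  have hsum0' : ∀ {M : Type} [AddCommMonoid M] (F : ι → M), (∀ χ, D.m 0 χ = 0 → F χ = 0) →
      ∑ χ, F χ = F a + F b := by
    intro M _ F hF
    rw [← Finset.sum_subset (Finset.subset_univ {a, b}) fun χ _ hn => hF χ ?_, Finset.sum_pair hab]
    simp only [Finset.mem_insert, Finset.mem_singleton, not_or] at hn
    exact hrow χ hn.1 hn.2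
  have hab' : ∀ i, i ≠ 0 → D.m i a = D.m i b := by
    intro i hi
    have h := D.gram_eq 0 i
    rw [hsum0' _ (fun χ h => by simp [h]), ha1, hb1] at h
    have hz : gram 0 i = 0 := (by decide : ∀ j : Idx, j ≠ 0 → gram 0 j = 0) i hi
    linarith
  -- the pair relation for row zero
  have hw : 3 * (D.m 1 a + D.m 2 a) + 5 * D.m 3 a = 0 := by
    have h := D.pair 0
    rw [hsum0' _ (fun χ h => by simp [h]), ha1, hb1, show psum 0 = 0 from rfl, ← hdab, D.v_def, D.v_def, ha1, hb1,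
      ← hab' 1 (by decide), ← hab' 2 (by decide), ← hab' 3 (by decide)] at h
    have hd : (D.d a : ℚ) ≠ 0 := Nat.cast_ne_zero.2 (D.d_pos a).ne'
    push_cast at h
    field_simp at h
    simp only [mul_zero, zero_div] at h
    have : (3 * ((D.m 1 a : ℚ) + D.m 2 a) + 5 * D.m 3 a) = 0 := by linarith [h]
    exact_mod_cast this
  have hA11 : ∑ χ ∈ s, D.m 1 χ * D.m 1 χ = 3 := hG 1 1
  have hA22 : ∑ χ ∈ s, D.m 2 χ * D.m 2 χ = 3 := hG 2 2
  have hA33 : ∑ χ ∈ s, D.m 3 χ * D.m 3 χ = 3 := hG 3 3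
  have has : a ∈ s := hmem.2 ha
  have hbs : b ∈ s := hmem.2 hb
  obtain ⟨x, hx, hx1, hx12, hu12⟩ := cross D.d_pos hA11 hA22 (hG 1 2) ((hDg 1).trans (hDg 2).symm)
  obtain ⟨y, hy, hy1, hy13, hu13⟩ := cross (h := fun χ => -D.m 3 χ) D.d_pos hA11
    (by simpa using hA33) (by simp only [mul_neg, Finset.sum_neg_distrib, hG]; rfl)
    (by simp only [neg_mul, Finset.sum_neg_distrib, hDg]; rfl)
  obtain ⟨z, hz, hz2, hz23, hu23⟩ := cross (h := fun χ => -D.m 3 χ) D.d_pos hA22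
    (by simpa using hA33) (by simp only [mul_neg, Finset.sum_neg_distrib, hG]; rfl)
    (by simp only [neg_mul, Finset.sum_neg_distrib, hDg]; rfl)
  have hza : D.m 1 a = 0 ∧ D.m 2 a = 0 ∧ D.m 3 a = 0 := by
    have e1 := abs_le_one_of_sq_sum hA11 (by norm_num) has
    have e2 := abs_le_one_of_sq_sum hA22 (by norm_num) has
    have e3 := abs_le_one_of_sq_sum hA33 (by norm_num) has
    by_cases h1 : D.m 1 a = 0
    · omega
    · have h2 : D.m 2 a ≠ 0 := by omega
      have h3a := hu12 a has h1 h2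
      have h3b := hu12 b hbs (by rwa [← hab' 1 (by decide)]) (by rwa [← hab' 2 (by decide)])
      exact absurd (h3a.trans h3b.symm) hab
  have hzb : D.m 1 b = 0 ∧ D.m 2 b = 0 ∧ D.m 3 b = 0 := by
    rw [← hab' 1 (by decide), ← hab' 2 (by decide), ← hab' 3 (by decide)]; exact hza
  have hva : D.v a = 4 := by rw [D.v_def]; omega
  have hvb : D.v b = -4 := by rw [D.v_def]; omega
  have hm0 : ∀ i, i ≠ 0 → ∀ χ, D.m i χ ≠ 0 → D.m 0 χ = 0 := by
    intro i hi χ hχ
    refine hrow χ ?_ ?_ <;> rintro rfl <;>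
      rcases (by decide : ∀ j : Idx, j ≠ 0 → j = 1 ∨ j = 2 ∨ j = 3) i hi with rfl | rfl | rfl <;>
      first
        | exact hχ hza.1
        | exact hχ hza.2.1
        | exact hχ hza.2.2
        | exact hχ hzb.1
        | exact hχ hzb.2.1
        | exact hχ hzb.2.2
  have hpm : ∀ {i : Idx} {χ : ι}, χ ∈ s → i ≠ 0 → D.m i χ ≠ 0 → D.m i χ = 1 ∨ D.m i χ = -1 := by
    intro i χ hχ hi h0
    have h : ∑ χ ∈ s, D.m i χ * D.m i χ = 3 := by
      rw [hG]
      exact (by decide : ∀ j : Idx, j ≠ 0 → gram j j - trv j * trv j = 3) i hi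
    exact (abs_le_one_of_sq_sum h (by norm_num) hχ).resolve_left h0
  have hpair : ∀ i, ∑ χ ∈ s, ((D.m i χ : ℚ) * (D.v χ : ℚ) ^ 2 / (D.d χ : ℚ)) =
      120 * (psum i : ℚ) / g - trv i := fun i => by
    have h := D.pair i
    rw [hsum, D.triv, D.v_o, D.d_o] at h
    simp only [Int.cast_one, Nat.cast_one, one_pow, mul_one, div_one] at h
    linarith
  have hF0 : ∀ i χ, D.m i χ = 0 → ((D.m i χ : ℚ) * (D.v χ : ℚ) ^ 2 / (D.d χ : ℚ)) = 0 := by
    intro i χ h; simp [h]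
  have hF1 : ∀ i χ, D.m i χ = 0 → D.m i χ * (D.d χ : ℤ) = 0 := by
    intro i χ h; simp [h]
  by_cases hxy : D.m 3 x ≠ 0
  · -- the three supports have a common point
    have hyx : x = y := hu13 x hx hx1 (by simpa using hxy)
    have hzx : x = z := hu23 x hx (hx12 ▸ hx1) (by simpa using hxy)
    subst hyx hzx
    obtain ⟨y₁, hy₁, hy₁0, hy₁x⟩ := complete_one hA11 hx1
    obtain ⟨y₂, hy₂, hy₂0, hy₂x, hy₂y, hcov1, hs1⟩ := complete_two hA11 hx hy₁ hy₁x.symm hx1 hy₁0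
    obtain ⟨z₁, hz₁, hz₁0, hz₁x⟩ := complete_one hA22 hz2
    obtain ⟨z₂, hz₂, hz₂0, hz₂x, hz₂y, hcov2, hs2⟩ := complete_two hA22 hx hz₁ hz₁x.symm hz2 hz₁0
    obtain ⟨u₁, hu₁, hu₁0, hu₁x⟩ := complete_one hA33 hxy
    obtain ⟨u₂, hu₂, hu₂0, hu₂x, hu₂y, hcov3, hs3⟩ := complete_two hA33 hx hu₁ hu₁x.symm hxy hu₁0
    have v1 : ∀ χ ∈ s, χ ≠ x → D.m 1 χ ≠ 0 → D.v χ = D.m 1 χ * 3 := fun χ hχ hne h0 => by
      have e2 : D.m 2 χ = 0 := by by_contra h; exact hne (hu12 χ hχ h0 h)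
      have e3 : D.m 3 χ = 0 := by by_contra h; exact hne (hu13 χ hχ h0 (by simpa using h))
      rw [D.v_def, e2, e3, hm0 1 (by decide) χ h0]; ring
    have v2 : ∀ χ ∈ s, χ ≠ x → D.m 2 χ ≠ 0 → D.v χ = D.m 2 χ * 3 := fun χ hχ hne h0 => by
      have e1 : D.m 1 χ = 0 := by by_contra h; exact hne (hu12 χ hχ h h0)
      have e3 : D.m 3 χ = 0 := by by_contra h; exact hne (hu23 χ hχ h0 (by simpa using h))
      rw [D.v_def, e1, e3, hm0 2 (by decide) χ h0]; ring
    have v3 : ∀ χ ∈ s, χ ≠ x → D.m 3 χ ≠ 0 → D.v χ = D.m 3 χ * 5 := fun χ hχ hne h0 => by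
      have e1 : D.m 1 χ = 0 := by by_contra h; exact hne (hu13 χ hχ h (by simpa using h0))
      have e2 : D.m 2 χ = 0 := by by_contra h; exact hne (hu23 χ hχ h (by simpa using h0))
      rw [D.v_def, e1, e2, hm0 3 (by decide) χ h0]; ring
    have vx : D.v x = D.m 1 x * 1 := by
      rw [D.v_def, ← hx12, hm0 1 (by decide) x hx1]
      omega
    have εx := hpm hx (by decide) hx1
    have εy1 := hpm hy₁ (by decide) hy₁0
    have εy2 := hpm hy₂ (by decide) hy₂0
    have εz1 := hpm hz₁ (by decide) hz₁0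
    have εz2 := hpm hz₂ (by decide) hz₂0
    have εu1 := hpm hu₁ (by decide) hu₁0
    have εu2 := hpm hu₂ (by decide) hu₂0
    have sx := D.signed (hmem.1 hx) εx vx
    have sy1 := D.signed (hmem.1 hy₁) εy1 (v1 y₁ hy₁ hy₁x hy₁0)
    have sy2 := D.signed (hmem.1 hy₂) εy2 (v1 y₂ hy₂ hy₂x hy₂0)
    have sz1 := D.signed (hmem.1 hz₁) εz1 (v2 z₁ hz₁ hz₁x hz₁0)
    have sz2 := D.signed (hmem.1 hz₂) εz2 (v2 z₂ hz₂ hz₂x hz₂0)
    have su1 := D.signed (hmem.1 hu₁) εu1 (v3 u₁ hu₁ hu₁x hu₁0)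
    have su2 := D.signed (hmem.1 hu₂) εu2 (v3 u₂ hu₂ hu₂x hu₂0)
    have hm3x : D.m 3 x = -D.m 1 x := by omega
    have d1 := hDg 1
    have d2 := hDg 2
    have d3 := hDg 3
    rw [hs1 _ (fun χ _ h => hF1 1 χ h), show trv 1 = 1 from rfl] at d1
    rw [hs2 _ (fun χ _ h => hF1 2 χ h), show trv 2 = 1 from rfl, ← hx12] at d2
    rw [hs3 _ (fun χ _ h => hF1 3 χ h), show trv 3 = -1 from rfl, hm3x, neg_mul] at d3
    have q1 := hpair 1
    have q2 := hpair 2
    have q3 := hpair 3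
    rw [hs1 _ (fun χ _ h => hF0 1 χ h), vx, v1 y₁ hy₁ hy₁x hy₁0, v1 y₂ hy₂ hy₂x hy₂0,
      show psum 1 = 1200 from rfl, show trv 1 = 1 from rfl] at q1
    rw [hs2 _ (fun χ _ h => hF0 2 χ h), vx, v2 z₁ hz₁ hz₁x hz₁0, v2 z₂ hz₂ hz₂x hz₂0,
      show psum 2 = 1200 from rfl, show trv 2 = 1 from rfl, ← hx12] at q2
    rw [hs3 _ (fun χ _ h => hF0 3 χ h), vx, v3 u₁ hu₁ hu₁x hu₁0, v3 u₂ hu₂ hu₂x hu₂0,
      show psum 3 = -720 from rfl, show trv 3 = -1 from rfl, hm3x] at q3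
    have sq1 : ∀ {e : ℤ}, e = 1 ∨ e = -1 → ∀ k : ℚ, ((e : ℚ) * k) ^ 2 = k ^ 2 := by
      rintro e (rfl | rfl) k <;> push_cast <;> ring
    push_cast at q1 q2 q3
    simp only [sq1 εx, sq1 εy1, sq1 εy2, sq1 εz1, sq1 εz2, sq1 εu1, sq1 εu2, term_signed εx,
      term_signed εy1, term_signed εy2, term_signed εz1, term_signed εz2, term_signed εu1,
      term_signed εu2, neg_mul, neg_div] at q1 q2 q3
    norm_num at q1 q2 q3
    have RY := case1 (r := D.m 1 x * D.d x) (a := D.m 1 y₁ * D.d y₁) (b := D.m 1 y₂ * D.d y₂)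
      (u := D.m 3 u₁ * D.d u₁) (w := D.m 3 u₂ * D.d u₂) hgpos D.og sx sy1 sy2 su1 su2 (by omega) (by omega)
      (by push_cast; rw [one_div, mul_inv_rev]; linarith) (by push_cast; rw [one_div, mul_inv_rev]; linarith)
    have RZ := case1 (r := D.m 1 x * D.d x) (a := D.m 2 z₁ * D.d z₁) (b := D.m 2 z₂ * D.d z₂)
      (u := D.m 3 u₁ * D.d u₁) (w := D.m 3 u₂ * D.d u₂) hgpos D.og sx sz1 sz2 su1 su2 (by omega) (by omega)
      (by push_cast; rw [one_div, mul_inv_rev]; linarith) (by push_cast; rw [one_div, mul_inv_rev]; linarith)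
    rcases RY with h | ⟨hg, hr, e1, e2, e3, e4⟩
    · exact Or.inl (by exact_mod_cast h)
    rcases RZ with h | ⟨-, -, e5, e6, -, -⟩
    · exact Or.inl (by exact_mod_cast h)
    have hdx := D.d_pos x
    have hx' : D.m 1 x = -1 ∧ D.d x = 15 := by rcases εx with h | h <;> rw [h] at hr <;> omega
    have c1 : ∀ χ, χ ≠ D.o → χ ≠ x → D.m 1 χ = 0 ∨ 7 ∣ D.d χ := by
      intro χ ho hne
      by_cases h0 : D.m 1 χ = 0
      · exact Or.inl h0
      · rcases hcov1 χ (hmem.2 ho) h0 with h | rfl | rfl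
        · exact absurd h hne
        · exact Or.inr (seven_dvd εy1 e1)
        · exact Or.inr (seven_dvd εy2 e2)
    refine Or.inr ⟨by exact_mod_cast hg, x, a, b, hmem.1 hx, hab, ha, hb, by rw [vx, hx'.1]; rfl, hx'.2,
      hx'.1, hdab, hva, hvb, ha1, hb1, hrow, hza.1, hzb.1, c1, fun χ ho hne hca hcb => ?_⟩
    by_cases h1 : D.m 1 χ = 0
    · by_cases h2 : D.m 2 χ = 0
      · by_cases h3 : D.m 3 χ = 0
        · exact Or.inl (by rw [D.v_def, h1, h2, h3, hrow χ hca hcb]; rfl)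
        · rcases hcov3 χ (hmem.2 ho) h3 with h | rfl | rfl
          · exact absurd h hne
          · exact Or.inr (seven_dvd εu1 e3)
          · exact Or.inr (seven_dvd εu2 e4)
      · rcases hcov2 χ (hmem.2 ho) h2 with h | rfl | rfl
        · exact absurd h hne
        · exact Or.inr (seven_dvd εz1 e5)
        · exact Or.inr (seven_dvd εz2 e6)
    · exact Or.inr ((c1 χ ho hne).resolve_left h1)
  · -- pairwise intersections only
    push Not at hxy
    exfalso
    have hxy' : x ≠ y := by rintro rfl; omega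
    have hxz' : x ≠ z := by rintro rfl; omega
    have hyz' : y ≠ z := by
      rintro rfl
      exact hxy' (hu12 y hy hy1 hz2).symm
    obtain ⟨a₁, hma, ha0, hax, hay, hcov1, hs1⟩ := complete_two hA11 hx hy hxy' hx1 hy1
    obtain ⟨b₁, hmb, hb0, hbx, hbz, hcov2, hs2⟩ := complete_two hA22 hx hz hxz' (hx12 ▸ hx1) hz2
    obtain ⟨w, hmw, hw0, hwy, hwz, hcov3, hs3⟩ := complete_two hA33 hy hz hyz' (by omega) (by omega)
    have z2y : D.m 2 y = 0 := by by_contra h; exact hxy' (hu12 y hy hy1 h).symm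
    have z1z : D.m 1 z = 0 := by by_contra h; exact hxz' (hu12 z hz h hz2).symm
    have vx : D.v x = D.m 1 x * 6 := by rw [D.v_def, hxy, ← hx12, hm0 1 (by decide) x hx1]; ring
    have vy : D.v y = D.m 1 y * (-2) := by
      rw [D.v_def, z2y, hm0 1 (by decide) y hy1]; omega
    have vz : D.v z = D.m 2 z * (-2) := by
      rw [D.v_def, z1z, hm0 2 (by decide) z hz2]; omega
    have va : D.v a₁ = D.m 1 a₁ * 3 := by
      have e2 : D.m 2 a₁ = 0 := by by_contra h; exact hax (hu12 a₁ hma ha0 h)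
      have e3 : D.m 3 a₁ = 0 := by by_contra h; exact hay (hu13 a₁ hma ha0 (by simpa using h))
      rw [D.v_def, e2, e3, hm0 1 (by decide) a₁ ha0]; ring
    have vb : D.v b₁ = D.m 2 b₁ * 3 := by
      have e1 : D.m 1 b₁ = 0 := by by_contra h; exact hbx (hu12 b₁ hmb h hb0)
      have e3 : D.m 3 b₁ = 0 := by by_contra h; exact hbz (hu23 b₁ hmb hb0 (by simpa using h))
      rw [D.v_def, e1, e3, hm0 2 (by decide) b₁ hb0]; ring
    have vw : D.v w = D.m 3 w * 5 := by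
      have e1 : D.m 1 w = 0 := by by_contra h; exact hwy (hu13 w hmw h (by simpa using hw0))
      have e2 : D.m 2 w = 0 := by by_contra h; exact hwz (hu23 w hmw h (by simpa using hw0))
      rw [D.v_def, e1, e2, hm0 3 (by decide) w hw0]; ring
    have εx := hpm hx (by decide) hx1
    have εy := hpm hy (by decide) hy1
    have εz := hpm hz (by decide) hz2
    have εa := hpm hma (by decide) ha0
    have εb := hpm hmb (by decide) hb0
    have εw := hpm hmw (by decide) hw0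
    have sx := D.signed (hmem.1 hx) εx vx
    have sy := D.signed (hmem.1 hy) εy vy
    have sz := D.signed (hmem.1 hz) εz vz
    have sa := D.signed (hmem.1 hma) εa va
    have sb := D.signed (hmem.1 hmb) εb vb
    have sw := D.signed (hmem.1 hmw) εw vw
    have h3y : D.m 3 y = -D.m 1 y := by omega
    have h3z : D.m 3 z = -D.m 2 z := by omega
    have d1 := hDg 1
    have d2 := hDg 2
    have d3 := hDg 3
    rw [hs1 _ (fun χ _ h => hF1 1 χ h), show trv 1 = 1 from rfl] at d1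
    rw [hs2 _ (fun χ _ h => hF1 2 χ h), show trv 2 = 1 from rfl, ← hx12] at d2
    rw [hs3 _ (fun χ _ h => hF1 3 χ h), show trv 3 = -1 from rfl, h3y, h3z, neg_mul, neg_mul] at d3
    have q1 := hpair 1
    have q2 := hpair 2
    have q3 := hpair 3
    rw [hs1 _ (fun χ _ h => hF0 1 χ h), vx, vy, va,
      show psum 1 = 1200 from rfl, show trv 1 = 1 from rfl] at q1
    rw [hs2 _ (fun χ _ h => hF0 2 χ h), vx, vz, vb,
      show psum 2 = 1200 from rfl, show trv 2 = 1 from rfl, ← hx12] at q2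
    rw [hs3 _ (fun χ _ h => hF0 3 χ h), vy, vz, vw,
      show psum 3 = -720 from rfl, show trv 3 = -1 from rfl, h3y, h3z] at q3
    have sq1 : ∀ {e : ℤ}, e = 1 ∨ e = -1 → ∀ k : ℚ, ((e : ℚ) * k) ^ 2 = k ^ 2 := by
      rintro e (rfl | rfl) k <;> push_cast <;> ring
    push_cast at q1 q2 q3
    simp only [mul_neg, neg_sq, sq1 εx, sq1 εy, sq1 εz, sq1 εa, sq1 εb, sq1 εw, term_signed εx,
      term_signed εy, term_signed εz, term_signed εa, term_signed εb, term_signed εw, neg_mul,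
      neg_div] at q1 q2 q3
    norm_num at q1 q2 q3
    exact case2 (r := D.m 1 x * D.d x) (a := D.m 1 y * D.d y) (b := D.m 1 a₁ * D.d a₁)
      (c := D.m 2 z * D.d z) (d := D.m 2 b₁ * D.d b₁) (w := D.m 3 w * D.d w) hgpos D.og sx sy sa sz sb sw
      (by omega) (by omega) (by omega) (by push_cast; linarith) (by push_cast; linarith)
      (by push_cast; rw [neg_div]; linarith)

end CfsgLib.Recog.J1Order
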