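import Cfsg.Agent.Lib.Recog.J1Order.Sums
import Cfsg.Agent.Lib.Transfer.ThompsonTransfer

/-!
Owner: helper29. Involution fusion in a simple group with centraliser `Z₂ × A₅` of an involution.
-/

set_option autoImplicit false
set_option maxRecDepth 100000

namespace CfsgLib.Recog.J1Order

open Subgroup

variable {G : Type*} [Group G] [Finite G]

theorem model_two_element : ∀ m : Mdl, m ^ 30 = 1 ∧ (m ^ 8 = 1 → m * m = 1) := by decide +kernel

theorem model_center : ∀ m : Mdl, (∀ n : Mdl, n * m = m * n) → m = 1 ∨ m = (Multiplicative.ofAdd 1, 1) := by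
  decide +kernel

theorem two_elements : ∀ x : Multiplicative (ZMod 2),
    (Multiplicative.ofAdd (1 : ZMod 2) * x = 1 ↔ x ≠ 1) ∧
      (x * Multiplicative.ofAdd (1 : ZMod 2) = 1 ↔ x ≠ 1) := by
  decide

theorem card_model : Nat.card Mdl = 120 := by
  rw [Nat.card_eq_fintype_card]
  decide +kernel

omit [Finite G] in
/-- The image of the involution in the model. -/
theorem e_apply_t (t : G) (ht : orderOf t = 2) (e : centralizer ({t} : Set G) ≃* Mdl) :
    e ⟨t, mem_centralizer_singleton_iff.2 rfl⟩ = (Multiplicative.ofAdd 1, 1) := by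
  refine (model_center _ fun n => ?_).resolve_left fun h => ?_
  · obtain ⟨x, rfl⟩ := e.surjective n
    rw [← map_mul, ← map_mul]
    exact congrArg e (Subtype.ext (mem_centralizer_singleton_iff.1 x.2))
  · have h1 : t = 1 := congrArg Subtype.val (e.injective (h.trans (map_one e).symm))
    simp [h1] at ht

omit [Finite G] in
theorem orderOf_conj' (g u : G) : orderOf (g * u * g⁻¹) = orderOf u :=
  orderOf_injective (MulAut.conj g).toMonoidHom (MulAut.conj g).injective u

/-- All involutions are conjugate, and the Sylow `2`-subgroups have order `8`. -/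
theorem fusion [IsSimpleGroup G] (t : G) (ht : orderOf t = 2)
    (htc : ∃ P : Sylow 2 G, t ∈ P ∧ ∀ x ∈ P, x * t = t * x)
    (e : centralizer ({t} : Set G) ≃* Mdl) :
    (∃ P : Sylow 2 G, Nat.card P = 8 ∧ (P : Subgroup G) ≤ centralizer ({t} : Set G)) ∧
      (∀ u : G, orderOf u = 2 → IsConj t u) ∧ 120 ∣ Nat.card G ∧ ¬ 16 ∣ Nat.card G := by
  classical
  have : Fact (Nat.Prime 2) := ⟨Nat.prime_two⟩
  set H := centralizer ({t} : Set G) with hH
  have hcardH : Nat.card H = 120 := (Nat.card_congr e.toEquiv).trans card_model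
  obtain ⟨P, -, hPc⟩ := htc
  have hPH : (P : Subgroup G) ≤ H := fun x hx => mem_centralizer_singleton_iff.2 (hPc x hx)
  have hP8 : Nat.card P = 8 := by
    have h1 : Nat.card P ∣ 120 := hcardH ▸ card_dvd_of_le hPH
    obtain ⟨k, hk⟩ := P.isPGroup'.exists_card_eq
    have hk3 : 2 ^ k ∣ 2 ^ 3 * 15 := by rw [← hk]; simpa using h1
    have hle : k ≤ 3 := (Nat.pow_dvd_pow_iff_le_right (by norm_num)).1
      ((Nat.Coprime.pow_left k (by norm_num : Nat.Coprime 2 15)).dvd_of_dvd_mul_right hk3)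
    have h8 : 2 ^ 3 ∣ Nat.card P := P.pow_dvd_card_of_pow_dvd_card
      ((show 2 ^ 3 ∣ 120 by norm_num).trans (hcardH ▸ card_subgroup_dvd_card H))
    have h3 : 3 ≤ k := (Nat.pow_dvd_pow_iff_le_right (by norm_num)).1 (hk ▸ h8)
    rw [hk, show k = 3 by omega]
    rfl
  have hmodel : ∀ x : G, ∀ hx : x ∈ (P : Subgroup G), e ⟨x, hPH hx⟩ * e ⟨x, hPH hx⟩ = 1 := by
    intro x hx
    refine (model_two_element _).2 ?_
    rw [← map_pow, ← map_one e]
    refine congrArg e (Subtype.ext ?_)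
    have h := pow_card_eq_one' (G := (P : Subgroup G)) (x := ⟨x, hx⟩)
    rw [hP8] at h
    simpa using congrArg Subtype.val h
  -- the hyperplane of the alternating part
  set V : Subgroup G :=
    (P : Subgroup G) ⊓ (((MonoidHom.fst (Multiplicative (ZMod 2)) A5).comp e.toMonoidHom).ker).map H.subtype
    with hV
  have hVmem : ∀ x : G, x ∈ V ↔ ∃ hx : x ∈ (P : Subgroup G), (e ⟨x, hPH hx⟩).1 = 1 := by
    intro x
    constructor
    · rintro ⟨hxP, y, hy, rfl⟩
      exact ⟨hxP, hy⟩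
    · rintro ⟨hxP, hx⟩
      exact ⟨hxP, ⟨x, hPH hxP⟩, hx, rfl⟩
  have htP : t ∈ (P : Subgroup G) := by
    by_contra hnot
    have hz : IsPGroup 2 (zpowers t) := IsPGroup.of_card (n := 1) (by rw [Nat.card_zpowers, ht, pow_one])
    have hn : zpowers t ≤ normalizer ((P : Subgroup G) : Set G) := by
      rw [zpowers_le]
      refine mem_normalizer_iff.2 fun x => ?_
      have hfix : ∀ y ∈ (P : Subgroup G), t * y * t⁻¹ = y := fun y hy => by
        rw [← hPc y hy, mul_inv_cancel_right]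
      refine ⟨fun hx => by rw [hfix x hx]; exact hx, fun hx => ?_⟩
      have h2 := hfix _ hx
      have h3 : t * x * t⁻¹ = x := mul_left_cancel (mul_right_cancel h2)
      rwa [h3] at hx
    have h := hz.to_sup_of_normal_right' P.isPGroup' hn
    have := P.is_maximal' h le_sup_right
    exact hnot (this ▸ (le_sup_left : zpowers t ≤ _) (mem_zpowers t))
  have het := e_apply_t t ht e
  have hVi : V.relIndex (P : Subgroup G) = 2 := by
    rw [relIndex, index_eq_two_iff]
    refine ⟨⟨t, htP⟩, fun b => ?_⟩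
    have hx := two_elements
    have hb : (b * ⟨t, htP⟩ : (P : Subgroup G)) ∈ V.subgroupOf (P : Subgroup G) ↔
        (e ⟨b.1, hPH b.2⟩).1 ≠ 1 := by
      rw [mem_subgroupOf, hVmem]
      constructor
      · rintro ⟨h, h'⟩
        rw [← (hx _).2]
        refine Eq.trans ?_ h'
        rw [show (⟨(b * ⟨t, htP⟩ : (P : Subgroup G)).1, hPH h⟩ : H) =
          ⟨b.1, hPH b.2⟩ * ⟨t, mem_centralizer_singleton_iff.2 rfl⟩ from rfl, map_mul, het]
        rfl
      · intro h'
        refine ⟨mul_mem b.2 htP, ?_⟩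
        rw [show (⟨(b * ⟨t, htP⟩ : (P : Subgroup G)).1, hPH (mul_mem b.2 htP)⟩ : H) =
          ⟨b.1, hPH b.2⟩ * ⟨t, mem_centralizer_singleton_iff.2 rfl⟩ from rfl, map_mul, het, Prod.fst_mul]
        exact (hx _).2.2 h'
    have hb' : b ∈ V.subgroupOf (P : Subgroup G) ↔ (e ⟨b.1, hPH b.2⟩).1 = 1 := by
      rw [mem_subgroupOf, hVmem]
      exact ⟨fun ⟨_, h⟩ => h, fun h => ⟨b.2, h⟩⟩
    rw [hb, hb']
    by_cases h : (e ⟨b.1, hPH b.2⟩).1 = 1
    · exact Or.inr ⟨h, fun h' => h' h⟩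
    · exact Or.inl ⟨h, h⟩
  have hperf : ∀ M : Subgroup G, M.Normal → M.index ≠ 2 := by
    intro M hM hMi
    rcases hM.eq_bot_or_eq_top with h | h
    · rw [h, index_bot] at hMi
      have := card_dvd_of_le (le_top (a := H))
      rw [hcardH, card_top, hMi] at this
      exact absurd (Nat.le_of_dvd (by norm_num) this) (by norm_num)
    · rw [h, index_top] at hMi; omega
  have hintoV : ∀ u : G, orderOf u = 2 → ∃ g : G, g * u * g⁻¹ ∈ V := fun u hu =>
    (CfsgLib.Transfer.thompson_transfer P V hVi hu).resolve_left fun ⟨M, hM, hMi, _⟩ => hperf M hM hMi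
  have hAconj : ∀ g g' : A5, g * g = 1 → g ≠ 1 → g' * g' = 1 → g' ≠ 1 →
      ∃ y : A5, y * g * y⁻¹ = g' := by decide +kernel
  obtain ⟨g₀, hg₀⟩ := hintoV t ht
  have hVinv : ∀ x : G, x ∈ V → orderOf x = 2 → IsConj t x := by
    have hV' : ∀ x : G, x ∈ V → orderOf x = 2 → ∃ hx : x ∈ H,
        (e ⟨x, hx⟩).1 = 1 ∧ (e ⟨x, hx⟩).2 * (e ⟨x, hx⟩).2 = 1 ∧ (e ⟨x, hx⟩).2 ≠ 1 := by
      intro x hx hxo
      obtain ⟨hxP, hx1⟩ := (hVmem x).1 hx
      refine ⟨hPH hxP, hx1, congrArg Prod.snd (hmodel x hxP), fun h => ?_⟩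
      have h2 : e ⟨x, hPH hxP⟩ = e 1 := by rw [map_one]; exact Prod.ext hx1 h
      have := congrArg Subtype.val (e.injective h2)
      simp only [OneMemClass.coe_one] at this
      simp [this] at hxo
    intro x hx hxo
    obtain ⟨hy, hy1, hy2, hy3⟩ := hV' _ hg₀ (by rw [orderOf_conj']; exact ht)
    obtain ⟨hx', hx1, hx2, hx3⟩ := hV' x hx hxo
    obtain ⟨y, hy'⟩ := hAconj _ _ hy2 hy3 hx2 hx3
    refine (isConj_iff.2 ⟨g₀, rfl⟩).trans (isConj_iff.2 ⟨(e.symm (1, y) : H), ?_⟩)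
    have h1 : e (e.symm (1, y) * ⟨_, hy⟩ * (e.symm (1, y))⁻¹) = e ⟨x, hx'⟩ := by
      rw [map_mul, map_mul, map_inv, e.apply_symm_apply]
      exact Prod.ext (by simp [hy1, hx1]) hy'
    exact congrArg Subtype.val (e.injective h1)
  refine ⟨⟨P, hP8, hPH⟩, fun u hu => ?_, hcardH ▸ card_subgroup_dvd_card H, fun h16 => ?_⟩
  · obtain ⟨g, hg⟩ := hintoV u hu
    exact (hVinv _ hg (by rw [orderOf_conj']; exact hu)).trans (isConj_iff.2 ⟨g, rfl⟩).symm
  · have h := P.pow_dvd_card_of_pow_dvd_card (n := 4) (by simpa using h16)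
    rw [hP8] at h
    norm_num at h

end CfsgLib.Recog.J1Order
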