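import Cfsg.Agent.Lib.Recog.J1Order.Data

/-!
Owner: helper29. Sums of the special functions on `Z₂ × A₅`.
-/

set_option autoImplicit false
set_option maxRecDepth 100000

open scoped ComplexConjugate
open CfsgLib.Char CfsgLib.Char.Exceptional

namespace CfsgLib.Recog.J1Order

/-- The special function number `i` on the model. -/
noncomputable def al (φ : ℂ) (i : Idx) (m : Mdl) : ℂ :=
  if m.1 = 1 then 0 else 2 * pev φ (th i (cls m.2))

/-- The sign character of the first factor. -/
def sgnHom : Mdl →* ℤˣ where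
  toFun m := if m.1 = 1 then 1 else -1
  map_one' := by simp
  map_mul' := by
    intro a b
    have h : ∀ x y : Multiplicative (ZMod 2),
        (if x * y = 1 then (1 : ℤˣ) else -1) =
          (if x = 1 then 1 else -1) * (if y = 1 then 1 else -1) := by decide
    exact h a.1 b.1

theorem isGen_al (z : ℂ) (hz : z ^ 5 = 1) (hz1 : z ≠ 1) (i : Idx) :
    Cfsg.IsGeneralizedCharacter Mdl (al (1 + z + z ^ 4) i) := by
  have h1 := IsGen.comp (MonoidHom.snd (Multiplicative (ZMod 2)) A5) (isGen_th z hz hz1 i)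
  have h2 : Cfsg.IsGeneralizedCharacter Mdl (fun m => ((sgnHom m : ℤ) : ℂ)) :=
    IsGen.of_irr (isIrrCharacter_linear ((Units.map (Int.castRingHom ℂ).toMonoidHom).comp sgnHom))
  convert IsGen.mul (IsGen.sub isGen_one h2) h1 using 1
  funext m
  simp only [Pi.mul_apply, Pi.sub_apply, al]
  by_cases h : m.1 = 1
  · simp [sgnHom, h]
  · simp [sgnHom, h]
    norm_num

theorem root_facts (z : ℂ) (hz : z ^ 5 = 1) (hz1 : z ≠ 1) :
    (1 + z + z ^ 4) * (1 + z + z ^ 4) = (1 + z + z ^ 4) + 1 ∧
      conj (1 + z + z ^ 4) = 1 + z + z ^ 4 := by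
  have hsum : 1 + z + z ^ 2 + z ^ 3 + z ^ 4 = 0 := by
    have h : (z - 1) * (1 + z + z ^ 2 + z ^ 3 + z ^ 4) = 0 := by linear_combination hz
    exact (mul_eq_zero.1 h).resolve_left (sub_ne_zero.2 hz1)
  have hn : ‖z‖ = 1 := Complex.norm_eq_one_of_pow_eq_one hz (by norm_num)
  have hc : conj z = z ^ 4 := by
    have h1 : z * conj z = 1 := by rw [Complex.mul_conj', hn]; simp
    calc conj z = z ^ 5 * conj z := by rw [hz, one_mul]
      _ = z ^ 4 * (z * conj z) := by ring
      _ = z ^ 4 := by rw [h1, mul_one]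
  refine ⟨by grind, ?_⟩
  simp only [map_add, map_one, map_pow, hc]
  grind

theorem sum_mdl (F : Multiplicative (ZMod 2) → Fin 5 → ℂ) :
    ∑ m : Mdl, F m.1 (cls m.2) = ∑ x, ∑ j, clsCard j • F x j := by
  rw [Fintype.sum_prod_type]
  exact Finset.sum_congr rfl fun x _ => sum_cls (F x)

theorem sum_multZMod (F : Multiplicative (ZMod 2) → ℂ) :
    ∑ x, F x = F 1 + F (Multiplicative.ofAdd 1) := by
  rw [show (Finset.univ : Finset (Multiplicative (ZMod 2))) = {1, Multiplicative.ofAdd 1} by decide,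
    Finset.sum_pair (by decide)]

/-- The inner products of the special functions. -/
def gram : Idx → Idx → ℤ := ![![2, 0, 0, 0], ![0, 4, 2, -2], ![0, 2, 4, -2], ![0, -2, -2, 4]]

theorem sum_al_mul {φ : ℂ} (h2 : φ * φ = φ + 1) (hc : conj φ = φ) (i j : Idx) :
    ∑ m : Mdl, al φ i m * conj (al φ j m) = 120 * (gram i j : ℂ) := by
  rw [show ∑ m : Mdl, al φ i m * conj (al φ j m) = ∑ m : Mdl, (fun x k =>
    (if x = (1 : Multiplicative (ZMod 2)) then (0 : ℂ) else 2 * pev φ (th i k)) *
      conj (if x = (1 : Multiplicative (ZMod 2)) then (0 : ℂ) else 2 * pev φ (th j k))) m.1 (cls m.2)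
    from rfl]
  refine (sum_mdl (fun x k => (if x = (1 : Multiplicative (ZMod 2)) then (0 : ℂ) else 2 * pev φ (th i k)) *
      conj (if x = (1 : Multiplicative (ZMod 2)) then (0 : ℂ) else 2 * pev φ (th j k)))).trans ?_
  rw [sum_multZMod]
  fin_cases i <;> fin_cases j <;>
    simp [Fin.sum_univ_five, th, pev, gram, clsCard, map_mul, map_add, map_sub, map_neg, map_intCast, map_ofNat, hc] <;>
    grind

/-- The multiplicities of the trivial character. -/
def trv : Idx → ℤ := ![0, 1, 1, -1]

theorem sum_al {φ : ℂ} (i : Idx) : ∑ m : Mdl, al φ i m = 120 * (trv i : ℂ) := by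
  rw [show ∑ m : Mdl, al φ i m = ∑ m : Mdl, (fun x k =>
    (if x = (1 : Multiplicative (ZMod 2)) then (0 : ℂ) else 2 * pev φ (th i k))) m.1 (cls m.2)
    from rfl]
  refine (sum_mdl (fun x k => (if x = (1 : Multiplicative (ZMod 2)) then (0 : ℂ) else 2 * pev φ (th i k)))).trans ?_
  rw [sum_multZMod]
  fin_cases i <;> simp [Fin.sum_univ_five, th, pev, trv, clsCard] <;> grind

/-- The combination of the special functions which is supported on the central involution alone. -/
theorem al_comb {φ : ℂ} (m : Mdl) :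
    4 * al φ 0 m + 3 * al φ 1 m + 3 * al φ 2 m + 5 * al φ 3 m =
      if m = (Multiplicative.ofAdd 1, 1) then 120 else 0 := by
  obtain ⟨x, g⟩ := m
  have hx : ∀ y : Multiplicative (ZMod 2), y = 1 ∨ y = Multiplicative.ofAdd 1 := by decide
  rcases hx x with rfl | rfl
  · simp [al, Prod.ext_iff, show (1 : Multiplicative (ZMod 2)) ≠ Multiplicative.ofAdd 1 by decide]
  · have hone : ∀ g : A5, cls g = 0 ↔ g = 1 := by decide +kernel
    simp only [al, if_neg (show Multiplicative.ofAdd (1 : ZMod 2) ≠ 1 by decide), Prod.ext_iff,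
      true_and, ← hone g]
    generalize cls g = j
    fin_cases j <;> simp [th, pev] <;> ring

/-- The involutions of the model. -/
def invs : Finset Mdl := Finset.univ.filter fun u => u * u = 1 ∧ u ≠ 1

/-- The number of pairs of involutions with product in a given special class. -/
def pairTbl : Fin 5 → ℕ := ![30, 90, 120, 120, 120]

theorem card_pairs : ∀ j, ((invs ×ˢ invs).filter fun p =>
    (p.1 * p.2).1 ≠ 1 ∧ cls (p.1 * p.2).2 = j).card = pairTbl j := by
  decide +kernel

/-- The pair sums. -/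
def psum : Idx → ℤ := ![0, 1200, 1200, -720]

theorem sum_pairs {φ : ℂ} (i : Idx) :
    ∑ p ∈ invs ×ˢ invs, al φ i (p.1 * p.2) = (psum i : ℂ) := by
  simp only [al]
  rw [← Finset.sum_filter_add_sum_filter_not (invs ×ˢ invs) (fun p => (p.1 * p.2).1 = 1),
    Finset.sum_eq_zero (fun p hp => by rw [if_pos (Finset.mem_filter.1 hp).2]), zero_add,
    Finset.sum_congr rfl (fun p hp => if_neg (Finset.mem_filter.1 hp).2),
    ← Finset.sum_fiberwise _ (fun p => cls (p.1 * p.2).2),
    Finset.sum_congr rfl (g := fun j => (pairTbl j : ℂ) * (2 * pev φ (th i j))) fun j _ => ?_]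
  · fin_cases i <;> simp [Fin.sum_univ_five, th, pev, psum, pairTbl] <;> ring
  · rw [Finset.filter_filter, Finset.sum_congr rfl (g := fun _ => 2 * pev φ (th i j))
      (fun p hp => by rw [(Finset.mem_filter.1 hp).2.2]), Finset.sum_const, card_pairs, nsmul_eq_mul]

end CfsgLib.Recog.J1Order
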